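import Mathlib

/-!
Biadditive maps of a finite field of characteristic two which commute with scalars.
-/

set_option autoImplicit false
set_option linter.all false

namespace Cfsg.Agent.SingerFixed

/-- A biadditive `B` with `B (l x) (l y) = l B x y` is the square root of a bilinear form. -/
theorem biadditive_sq {F : Type*} [Field F] [Finite F] (h2 : (2 : F) = 0) (B : F → F → F)
    (haddl : ∀ x x' y, B (x + x') y = B x y + B x' y) (haddr : ∀ x y y', B x (y + y') = B x y + B x y')
    (hscal : ∀ l x y, B (l * x) (l * y) = l * B x y) :
    ∃ a : F, ∀ x y, B x y * B x y = a * x * y := by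
  set f : F → F := fun t => B t 1 with hf
  set h : F → F := fun t => B 1 t with hh
  have hfh : ∀ t, t ≠ 0 → f t⁻¹ * t = h t := by
    intro t ht
    simp only [hf, hh]
    rw [mul_comm, ← hscal, mul_inv_cancel₀ ht, mul_one]
  have hkey : ∀ t, h (t * t) = t * h 1 := by
    intro t
    by_cases ht : t = 0
    · subst ht
      have h0 : h 0 = 0 := by
        have := haddr 1 0 0
        simp only [add_zero] at this
        exact left_eq_add.1 this
      simp [h0]
    by_cases ht1 : t + 1 = 0
    · have : t = 1 := by linear_combination ht1 - h2
      subst this; simp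
    have hs : t * (t + 1) ≠ 0 := mul_ne_zero ht ht1
    have hid : t⁻¹ + (t + 1)⁻¹ = (t * (t + 1))⁻¹ := by
      field_simp
      linear_combination t * h2
    have e : f (t * (t + 1))⁻¹ = f t⁻¹ + f (t + 1)⁻¹ := by
      rw [← hid]; exact haddl _ _ _
    have e1 := hfh t ht
    have e2 := hfh (t + 1) ht1
    have e3 := hfh _ hs
    rw [e] at e3
    have hadd : ∀ u v, h (u + v) = h u + h v := fun u v => haddr 1 u v
    rw [show t * (t + 1) = t * t + t by ring, hadd] at e3
    rw [hadd t 1] at e2
    linear_combination (-1 : F) * e3 + (t + 1) * e1 + t * e2 + t * h t * h2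
  have hsurj : Function.Surjective fun t : F => t * t := by
    refine Finite.surjective_of_injective fun u v huv => ?_
    have : (u - v) * (u - v) = 0 := by
      have huv' : u * u = v * v := huv
      linear_combination huv' + (v * v - u * v) * h2
    exact sub_eq_zero.1 (mul_self_eq_zero.1 this)
  have hsq : ∀ t, h t * h t = h 1 * h 1 * t := by
    intro t
    obtain ⟨u, rfl⟩ := hsurj t
    rw [hkey]; ring
  refine ⟨h 1 * h 1, fun x y => ?_⟩
  by_cases hx : x = 0
  · subst hx
    have h0 : B 0 y = 0 := by
      have := haddl 0 0 y
      simp only [add_zero] at this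
      exact left_eq_add.1 this
    simp [h0]
  · have e : B x y = x * h (y / x) := by
      simp only [hh]
      rw [← hscal, mul_one, mul_div_cancel₀ _ hx]
    rw [e, show x * h (y / x) * (x * h (y / x)) = x * x * (h (y / x) * h (y / x)) by ring, hsq]
    field_simp

end Cfsg.Agent.SingerFixed
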