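import Mathlib
import Cfsg.Agent.Lib.Involutions.Suzuki.FieldModel
import Cfsg.Agent.Lib.RankTwoInvol.Singer.Field

/-!
A 2-group with an involutory automorphism whose fixed group is elementary abelian of order `2 ^ n`
and a commuting automorphism whose powers are regular on the nonidentity fixed elements.
-/

set_option autoImplicit false
set_option linter.all false

namespace Cfsg.Agent.SingerFixed

/-- The standing hypotheses. -/
structure Setup (P : Type*) [Group P] (n : ℕ) where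
  α : MulAut P
  ρ : MulAut P
  C : Subgroup P
  isP : IsPGroup 2 P
  two_le : 2 ≤ n
  invol : ∀ x : P, α (α x) = x
  comm : Commute α ρ
  period : ρ ^ (2 ^ n - 1) = 1
  fix : ∀ x : P, α x = x ↔ x ∈ C
  expC : ∀ c ∈ C, c * c = 1
  cardC : Nat.card C = 2 ^ n
  trans : ∀ x ∈ C, ∀ y ∈ C, x ≠ 1 → y ≠ 1 → ∃ k : ℕ, (ρ ^ k) x = y

namespace Setup

variable {P : Type*} [Group P] [Finite P] {n : ℕ} (S : Setup P n)

include S

omit [Finite P] in
theorem d_pos : 0 < 2 ^ n - 1 := by
  have h := S.two_le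
  have : 2 ^ 2 ≤ 2 ^ n := Nat.pow_le_pow_right two_pos h
  omega

omit [Finite P] in
theorem comm_pow (k : ℕ) (x : P) : S.α ((S.ρ ^ k) x) = (S.ρ ^ k) (S.α x) :=
  DFunLike.congr_fun (S.comm.pow_right k).eq x

omit [Finite P] in
theorem invC (k : ℕ) {c : P} (hc : c ∈ S.C) : (S.ρ ^ k) c ∈ S.C := by
  rw [← S.fix, S.comm_pow, (S.fix c).2 hc]

omit [Finite P] in
theorem pow_mod (k : ℕ) : S.ρ ^ k = S.ρ ^ (k % (2 ^ n - 1)) := pow_eq_pow_mod k S.period

theorem free {c : P} (hc : c ∈ S.C) (hc1 : c ≠ 1) {k : ℕ} (h : (S.ρ ^ k) c = c) : S.ρ ^ k = 1 := by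
  classical
  haveI : Fintype S.C := Fintype.ofFinite _
  set d := 2 ^ n - 1 with hd
  let f : Fin d → {y : S.C // y ≠ 1} := fun i => ⟨⟨(S.ρ ^ (i : ℕ)) c, S.invC i hc⟩, fun e => hc1
    ((S.ρ ^ (i : ℕ)).map_eq_one_iff.1 (congrArg Subtype.val e))⟩
  have hsurj : Function.Surjective f := by
    rintro ⟨⟨y, hy⟩, hy1⟩
    obtain ⟨k, hk⟩ := S.trans c hc y hy hc1 fun e => hy1 (Subtype.ext e)
    refine ⟨⟨k % d, Nat.mod_lt _ S.d_pos⟩, Subtype.ext (Subtype.ext ?_)⟩
    show (S.ρ ^ (k % d)) c = y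
    rw [← S.pow_mod, hk]
  have hcard : Nat.card {y : S.C // y ≠ 1} = d := by
    rw [Nat.card_eq_fintype_card, Fintype.card_subtype_compl, Fintype.card_subtype_eq,
      ← Nat.card_eq_fintype_card, S.cardC]
  have hinj := ((Nat.bijective_iff_surjective_and_card f).2
    ⟨hsurj, by rw [Nat.card_fin, hcard]⟩).1
  rw [S.pow_mod] at h ⊢
  have h0 : (⟨k % d, Nat.mod_lt _ S.d_pos⟩ : Fin d) = ⟨0, S.d_pos⟩ := hinj
    (Subtype.ext (Subtype.ext (by
      show (S.ρ ^ (k % d)) c = (S.ρ ^ 0) c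
      rw [h, pow_zero]; rfl)))
  rw [show k % d = 0 from congrArg Fin.val h0, pow_zero]

/-- No fixed points of `α` in `K / N` means `K ≤ N`. -/
theorem le_of_no_fixed (K N : Subgroup P) (hK : ∀ x ∈ K, S.α x ∈ K) (hN : ∀ x ∈ N, S.α x ∈ N)
    (hfix : ∀ x ∈ K, x⁻¹ * S.α x ∈ N → x ∈ N) : K ≤ N := by
  classical
  haveI : Fact (Nat.Prime 2) := ⟨Nat.prime_two⟩
  set N' := N.subgroupOf K with hN'
  haveI : Fintype (K ⧸ N') := Fintype.ofFinite _
  let g : K ⧸ N' → K ⧸ N' := Quotient.map' (fun x : K => (⟨S.α x, hK x x.2⟩ : K)) (by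
    intro a b h
    rw [QuotientGroup.leftRel_apply, hN', Subgroup.mem_subgroupOf] at h ⊢
    simpa using hN _ h)
  have hg : ∀ q, g (g q) = q := by
    intro q
    induction q using Quotient.inductionOn' with
    | h x => exact congrArg Quotient.mk'' (Subtype.ext (S.invol x))
  let π : Equiv.Perm (K ⧸ N') := Function.Involutive.toPerm g hg
  have hπ : π ^ (2 ^ 1) = 1 := by
    rw [pow_one, pow_two]
    exact Equiv.ext hg
  have hs := Equiv.Perm.card_compl_support_modEq (p := 2) (n := 1) (σ := π) hπ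
  have h1 : π.supportᶜ = {((1 : K) : K ⧸ N')} := by
    ext q
    induction q using Quotient.inductionOn' with
    | h x =>
      simp only [Finset.mem_compl, Equiv.Perm.mem_support, not_not, Finset.mem_singleton]
      constructor
      · intro h
        have h' : ((⟨S.α x, hK x x.2⟩ : K) : K ⧸ N') = (x : K ⧸ N') := h
        have h2 := QuotientGroup.eq.1 h'.symm
        rw [hN', Subgroup.mem_subgroupOf] at h2
        refine QuotientGroup.eq.2 ?_
        rw [hN', Subgroup.mem_subgroupOf, mul_one]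
        exact N.inv_mem (hfix x x.2 (by simpa using h2))
      · intro h
        have h' : (x : K ⧸ N') = ((1 : K) : K ⧸ N') := h
        have h2 := QuotientGroup.eq.1 h'
        rw [hN', Subgroup.mem_subgroupOf, mul_one] at h2
        have h3 : (x : P) ∈ N := by simpa using N.inv_mem h2
        show ((⟨S.α x, hK x x.2⟩ : K) : K ⧸ N') = (x : K ⧸ N')
        refine QuotientGroup.eq.2 ?_
        rw [hN', Subgroup.mem_subgroupOf]
        exact N.mul_mem (N.inv_mem (hN _ h3)) h3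
  rw [h1, Finset.card_singleton, ← Nat.card_eq_fintype_card] at hs
  obtain ⟨m, hm⟩ := (S.isP.to_subgroup K).index N'
  rw [← Subgroup.index_eq_card, hm] at hs
  have hm0 : m = 0 := by
    by_contra hm0
    obtain ⟨j, rfl⟩ := Nat.exists_eq_succ_of_ne_zero hm0
    rw [Nat.ModEq, pow_succ', Nat.mul_mod_right] at hs
    norm_num at hs
  rw [hm0, pow_zero, Subgroup.index_eq_one, hN', Subgroup.subgroupOf_eq_top] at hm
  exact hm

/-- A nontrivial invariant subgroup contains `C`. -/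
theorem C_le_of_invariant (K : Subgroup P) (hα : ∀ x ∈ K, S.α x ∈ K)
    (hρ : ∀ x ∈ K, S.ρ x ∈ K) (hK : K ≠ ⊥) : S.C ≤ K := by
  obtain ⟨c, hcK, hcC, hc1⟩ : ∃ c, c ∈ K ∧ c ∈ S.C ∧ c ≠ 1 := by
    by_contra hcon
    push Not at hcon
    refine hK (eq_bot_iff.2 (S.le_of_no_fixed K ⊥ hα
      (fun x hx => by rw [Subgroup.mem_bot.1 hx, map_one]; exact one_mem _) fun x hx h => ?_))
    rw [Subgroup.mem_bot, inv_mul_eq_one] at h
    exact Subgroup.mem_bot.2 (hcon x hx ((S.fix x).1 h.symm))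
  intro y hy
  by_cases hy1 : y = 1
  · subst hy1; exact one_mem _
  obtain ⟨k, hk⟩ := S.trans c hcC y hy hc1 hy1
  rw [← hk]
  have hpow : ∀ j : ℕ, (S.ρ ^ j) c ∈ K := fun j => by
    induction j with
    | zero => exact hcK
    | succ j ih => rw [pow_succ', MulAut.mul_apply]; exact hρ _ ih
  exact hpow k

theorem C_central : S.C ≤ Subgroup.center P := by
  have hf : ∀ (f : MulAut P) (z : P), z ∈ Subgroup.center P → f z ∈ Subgroup.center P := fun f z hz =>
    Subgroup.mem_center_iff.2 fun t => by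
      obtain ⟨t, rfl⟩ := f.surjective t
      rw [← map_mul, ← map_mul, Subgroup.mem_center_iff.1 hz t]
  haveI : Nontrivial P := by
    have h : 1 < Nat.card S.C := by rw [S.cardC]; exact Nat.one_lt_two_pow (by have := S.two_le; omega)
    obtain ⟨a, b, hab⟩ := (Finite.one_lt_card_iff_nontrivial.1 h).exists_pair_ne
    exact ⟨a, b, fun e => hab (Subtype.ext e)⟩
  haveI : Fact (Nat.Prime 2) := ⟨Nat.prime_two⟩
  haveI := S.isP.center_nontrivial
  exact S.C_le_of_invariant _ (hf S.α) (hf S.ρ) ((Subgroup.nontrivial_iff_ne_bot _).1 inferInstance)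

theorem Cc {c : P} (hc : c ∈ S.C) (g : P) : g * c = c * g :=
  Subgroup.mem_center_iff.1 (S.C_central hc) g

theorem Cnormal : S.C.Normal :=
  ⟨fun c hc g => by rw [S.Cc hc g, mul_inv_cancel_right]; exact hc⟩

theorem fpf {k : ℕ} (hk : S.ρ ^ k ≠ 1) {x : P} (hx : (S.ρ ^ k) x = x) : x = 1 := by
  let K : Subgroup P := (S.ρ ^ k).toMonoidHom.eqLocus (MonoidHom.id P)
  have hmem : ∀ y, y ∈ K ↔ (S.ρ ^ k) y = y := fun y => Iff.rfl
  refine Subgroup.mem_bot.1 (S.le_of_no_fixed K ⊥ (fun y hy => ?_)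
    (fun y hy => by rw [Subgroup.mem_bot.1 hy, map_one]; exact one_mem _) (fun y hy h => ?_)
    (show x ∈ K from (hmem x).2 hx))
  · rw [hmem, ← S.comm_pow, (hmem y).1 hy]
  · rw [Subgroup.mem_bot, inv_mul_eq_one] at h
    by_contra hy1
    exact hk (S.free ((S.fix y).1 h.symm) (fun e => hy1 (Subgroup.mem_bot.2 e)) ((hmem y).1 hy))

/-- The fixed group as the additive group of a field, the automorphism being a scalar. -/
theorem exists_field : ∃ (F : Type) (_ : Field F) (_ : Fintype F) (e : P → F) (ω : F),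
    Fintype.card F = 2 ^ n ∧ (2 : F) = 0 ∧ Set.BijOn e S.C Set.univ ∧
      (∀ x ∈ S.C, ∀ y ∈ S.C, e (x * y) = e x + e y) ∧ (∀ x ∈ S.C, e (S.ρ x) = ω * e x) ∧
      (∀ a : F, a ≠ 0 → ∃ k : ℕ, a = ω ^ k) := by
  classical
  haveI : Fact (Nat.Prime 2) := ⟨Nat.prime_two⟩
  have hn0 : n ≠ 0 := by have := S.two_le; omega
  let F := GaloisField 2 n
  letI : Fintype F := Fintype.ofFinite F
  have hF : Fintype.card F = 2 ^ n := by
    rw [← Nat.card_eq_fintype_card]; exact GaloisField.card 2 n hn0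
  have h2 : (2 : F) = 0 := CharTwo.two_eq_zero
  haveI : Finite (MulAut P) := Finite.of_injective _ DFunLike.coe_injective
  let K := Subgroup.zpowers S.ρ
  letI : CommGroup K := { (inferInstance : Group K) with
    mul_comm := fun a b => Subtype.ext (by
      obtain ⟨i, hi⟩ := a.2
      obtain ⟨j, hj⟩ := b.2
      show (a : MulAut P) * b = (b : MulAut P) * a
      rw [← hi, ← hj]
      exact zpow_mul_comm _ _ _) }
  have hKpow : ∀ k : K, ∃ j : ℕ, (k : MulAut P) = S.ρ ^ j := fun k => by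
    obtain ⟨j, hj⟩ := (isOfFinOrder_of_finite S.ρ).mem_powers_iff_mem_zpowers.2 k.2
    exact ⟨j, hj.symm⟩
  letI : CommGroup S.C :=
    { (inferInstance : Group S.C) with mul_comm := fun a b => Subtype.ext (S.Cc b.2 a.1) }
  have hCinv : ∀ (k : K) (c : P), c ∈ S.C → (k : MulAut P) c ∈ S.C := fun k c hc => by
    obtain ⟨j, hj⟩ := hKpow k
    rw [hj]; exact S.invC j hc
  let act : K → Additive S.C →+ Additive S.C := fun k =>
    MonoidHom.toAdditive (((k : MulAut P).toMonoidHom.comp S.C.subtype).codRestrict S.C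
      fun c => hCinv k c.1 c.2)
  have hact : ∀ (k : K) (z : Additive S.C), ((Additive.toMul (act k z) : S.C) : P) =
      (k : MulAut P) ((Additive.toMul z : S.C) : P) := fun k z => rfl
  have hext : ∀ a b : Additive S.C,
      ((Additive.toMul a : S.C) : P) = ((Additive.toMul b : S.C) : P) → a = b := fun a b h => Subtype.ext h
  have hnz : ∀ a : Additive S.C, a ≠ 0 → ((Additive.toMul a : S.C) : P) ≠ 1 :=
    fun a ha h => ha (hext _ _ h)
  obtain ⟨eF, lam, hlam0, hlams, hlam⟩ := Involutions.Suzuki.FieldModel.exists_model (K := ↥K) F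
    ((Nat.card_congr Additive.toMul).trans (by rw [S.cardC, hF])) act
    (fun k l z => hext _ _ rfl)
    (fun k z hz h => hnz z hz ((k : MulAut P).map_eq_one_iff.1 (by rw [← hact, h]; rfl)))
    (fun a b ha hb => by
      obtain ⟨j, hj⟩ := S.trans _ (Additive.toMul a : S.C).2 _ (Additive.toMul b : S.C).2 (hnz a ha)
        (hnz b hb)
      refine ⟨⟨S.ρ ^ j, Subgroup.npow_mem_zpowers _ _⟩, hext _ _ hj, fun l hl => ?_⟩
      obtain ⟨i, hi⟩ := hKpow l
      refine Subtype.ext ?_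
      show (l : MulAut P) = S.ρ ^ j
      have hl' : (S.ρ ^ i) ((Additive.toMul a : S.C) : P) = ((Additive.toMul b : S.C) : P) := by
        rw [← hi, ← hact, hl]
      obtain ⟨m, hm⟩ : ∃ m, S.ρ ^ m * S.ρ ^ j = 1 := by
        refine ⟨(2 ^ n - 1) - j % (2 ^ n - 1), ?_⟩
        rw [S.pow_mod j, ← pow_add, Nat.sub_add_cancel (Nat.mod_lt _ S.d_pos).le, S.period]
      have hfix : (S.ρ ^ (m + i)) ((Additive.toMul a : S.C) : P) = ((Additive.toMul a : S.C) : P) := by
        rw [pow_add, MulAut.mul_apply, hl', ← hj, ← MulAut.mul_apply, hm]; rfl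
      have h1 := S.free (Additive.toMul a : S.C).2 (hnz a ha) hfix
      rw [hi]
      exact mul_left_cancel ((pow_add S.ρ m i).symm.trans (h1.trans hm.symm)))
  let e : P → F := fun x => if h : x ∈ S.C then eF (Additive.ofMul (⟨x, h⟩ : S.C)) else 0
  have he : ∀ (x : P) (h : x ∈ S.C), e x = eF (Additive.ofMul (⟨x, h⟩ : S.C)) := fun x h => dif_pos h
  let r : K := ⟨S.ρ, Subgroup.mem_zpowers _⟩
  refine ⟨F, inferInstance, inferInstance, e, lam r, hF, h2, ⟨fun x _ => trivial, ?_, ?_⟩, ?_, ?_, ?_⟩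
  · intro x hx y hy hxy
    rw [he x hx, he y hy] at hxy
    exact congrArg Subtype.val (Additive.ofMul.injective (eF.injective hxy))
  · intro a _
    refine ⟨((Additive.toMul (eF.symm a) : S.C) : P), (Additive.toMul (eF.symm a) : S.C).2, ?_⟩
    rw [he _ (Additive.toMul (eF.symm a) : S.C).2]
    exact eF.apply_symm_apply a
  · intro x hx y hy
    rw [he x hx, he y hy, he _ (mul_mem hx hy), ← map_add]
    rfl
  · intro x hx
    rw [he x hx, he _ (show S.ρ x ∈ S.C by simpa using S.invC 1 hx), ← hlam]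
    rfl
  · intro a ha
    obtain ⟨k, hk⟩ := hlams a ha
    obtain ⟨j, hj⟩ := hKpow k
    refine ⟨j, ?_⟩
    rw [← hk]
    have hmul : ∀ i : ℕ, lam (r ^ i) = lam r ^ i := by
      have hone : eF.symm 1 ≠ 0 := fun h => one_ne_zero (eF.symm.injective (h.trans (map_zero _).symm) : (1 : F) = 0)
      intro i
      induction i with
      | zero =>
        have h := hlam 1 (eF.symm 1)
        rw [show act 1 (eF.symm 1) = eF.symm 1 from hext _ _ rfl, eF.apply_symm_apply, mul_one] at h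
        rw [pow_zero, pow_zero]; exact h.symm
      | succ i ih =>
        have h := hlam (r * r ^ i) (eF.symm 1)
        rw [show act (r * r ^ i) (eF.symm 1) = act r (act (r ^ i) (eF.symm 1)) from hext _ _ rfl, hlam,
          hlam, eF.apply_symm_apply, mul_one, mul_one] at h
        rw [pow_succ', pow_succ', ← h, ih]
    rw [← hmul, show k = r ^ j from Subtype.ext hj]

/-- An equivariant pairing on `C` is trivial or nondegenerate, and trivial if alternating. -/
theorem pairing (b : P → P → P) (hb : ∀ u ∈ S.C, ∀ v ∈ S.C, b u v ∈ S.C)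
    (hl : ∀ u ∈ S.C, ∀ u' ∈ S.C, ∀ v ∈ S.C, b (u * u') v = b u v * b u' v)
    (hr : ∀ u ∈ S.C, ∀ v ∈ S.C, ∀ v' ∈ S.C, b u (v * v') = b u v * b u v')
    (he : ∀ u ∈ S.C, ∀ v ∈ S.C, b (S.ρ u) (S.ρ v) = S.ρ (b u v)) :
    ((∀ u ∈ S.C, ∀ v ∈ S.C, b u v = 1) ∨ ∀ u ∈ S.C, ∀ v ∈ S.C, b u v = 1 → u = 1 ∨ v = 1) ∧
      ((∀ u ∈ S.C, b u u = 1) → ∀ u ∈ S.C, ∀ v ∈ S.C, b u v = 1) := by
  classical
  obtain ⟨F, _, _, e, ω, hF, h2, hbij, hadd, hscal, hgen⟩ := S.exists_field
  have h1 : e 1 = 0 := by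
    have h := hadd 1 (one_mem _) 1 (one_mem _)
    rw [one_mul] at h
    exact left_eq_add.1 h
  have hex : ∀ a : F, ∃ x ∈ S.C, e x = a := fun a => hbij.surjOn (Set.mem_univ a)
  choose g hgC hg using hex
  have hge : ∀ x ∈ S.C, g (e x) = x := fun x hx => hbij.injOn (hgC _) hx (hg _)
  have hgadd : ∀ a a', g (a + a') = g a * g a' := fun a a' =>
    hbij.injOn (hgC _) (mul_mem (hgC _) (hgC _)) (by rw [hadd _ (hgC _) _ (hgC _), hg, hg, hg])
  have hgρ : ∀ a, g (ω * a) = S.ρ (g a) := fun a =>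
    hbij.injOn (hgC _) (by simpa using S.invC 1 (hgC a)) (by rw [hscal _ (hgC _), hg, hg])
  let B : F → F → F := fun x y => e (b (g x) (g y))
  have hω : ∀ x y, B (ω * x) (ω * y) = ω * B x y := fun x y => by
    show e (b (g (ω * x)) (g (ω * y))) = ω * e (b (g x) (g y))
    rw [hgρ, hgρ, he _ (hgC _) _ (hgC _), hscal _ (hb _ (hgC _) _ (hgC _))]
  have hscalB : ∀ l x y, B (l * x) (l * y) = l * B x y := by
    intro l x y
    by_cases hl0 : l = 0
    · subst hl0
      have h0 : ∀ v ∈ S.C, b 1 v = 1 := fun v hv => by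
        have h := hl 1 (one_mem _) 1 (one_mem _) v hv
        rw [one_mul] at h
        exact left_eq_mul.1 h
      have hg0 : g 0 = 1 := by rw [← h1, hge 1 (one_mem _)]
      simp only [zero_mul, B, hg0, h0 1 (one_mem _), h1]
    obtain ⟨k, rfl⟩ := hgen l hl0
    induction k generalizing x y with
    | zero => simp
    | succ k ih =>
      rw [pow_succ', mul_assoc, mul_assoc, hω, ih x y (fun h => hl0 (by rw [pow_succ', h, mul_zero])), mul_assoc]
  obtain ⟨a, ha⟩ := biadditive_sq h2 B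
    (fun x x' y => by
      show e (b (g (x + x')) (g y)) = _
      rw [hgadd, hl _ (hgC _) _ (hgC _) _ (hgC _), hadd _ (hb _ (hgC _) _ (hgC _)) _ (hb _ (hgC _) _ (hgC _))])
    (fun x y y' => by
      show e (b (g x) (g (y + y'))) = _
      rw [hgadd, hr _ (hgC _) _ (hgC _) _ (hgC _), hadd _ (hb _ (hgC _) _ (hgC _)) _ (hb _ (hgC _) _ (hgC _))])
    hscalB
  have key : ∀ u ∈ S.C, ∀ v ∈ S.C, (b u v = 1 ↔ a * e u * e v = 0) := fun u hu v hv => by
    rw [← ha (e u) (e v), mul_self_eq_zero]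
    show _ ↔ e (b (g (e u)) (g (e v))) = 0
    rw [hge u hu, hge v hv, ← h1]
    exact ⟨fun h => by rw [h], fun h => hbij.injOn (hb u hu v hv) (one_mem _) h⟩
  constructor
  · by_cases ha0 : a = 0
    · exact Or.inl fun u hu v hv => (key u hu v hv).2 (by rw [ha0, zero_mul, zero_mul])
    · refine Or.inr fun u hu v hv h => ?_
      rcases mul_eq_zero.1 ((key u hu v hv).1 h) with h' | h'
      · exact Or.inl (hbij.injOn hu (one_mem _) (((mul_eq_zero.1 h').resolve_left ha0).trans h1.symm))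
      · exact Or.inr (hbij.injOn hv (one_mem _) (h'.trans h1.symm))
  · intro halt u hu v hv
    have h := (key _ (hgC 1) _ (hgC 1)).1 (halt _ (hgC 1))
    rw [hg, mul_one, mul_one] at h
    exact (key u hu v hv).2 (by rw [h, zero_mul, zero_mul])

end Setup

end Cfsg.Agent.SingerFixed
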