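import Mathlib
import Cfsg.Agent.Lib.RankTwoInvol.Singer.Basic

/-!
The first layer above the fixed group, the quotient, and lifted pairings.
-/

set_option autoImplicit false
set_option linter.all false

namespace Cfsg.Agent.SingerFixed

/-- The commutator. -/
def kk {P : Type*} [Group P] (a b : P) : P := a * b * a⁻¹ * b⁻¹

section kk

variable {P : Type*} [Group P]

theorem kk_self (a : P) : kk a a = 1 := by simp [kk]

theorem map_kk {Q : Type*} [Group Q] {F : Type*} [FunLike F P Q] [MonoidHomClass F P Q] (f : F) (a b : P) :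
    f (kk a b) = kk (f a) (f b) := by simp [kk]

theorem kk_swap (a b : P) : kk b a = (kk a b)⁻¹ := by simp [kk, mul_assoc]

theorem kk_eq_one {a b : P} : kk a b = 1 ↔ a * b = b * a := by
  rw [kk, mul_inv_eq_one, mul_inv_eq_iff_eq_mul]

theorem kk_mul_left {a b c : P} (h : ∀ g, g * kk b c = kk b c * g) : kk (a * b) c = kk a c * kk b c := by
  calc kk (a * b) c = a * kk b c * (c * a⁻¹ * c⁻¹) := by simp [kk, mul_assoc]
    _ = kk b c * (a * (c * a⁻¹ * c⁻¹)) := by rw [h a, mul_assoc]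
    _ = (a * (c * a⁻¹ * c⁻¹)) * kk b c := (h _).symm
    _ = _ := by simp [kk, mul_assoc]

theorem kk_mul_right {a b c : P} (h : ∀ g, g * kk a c = kk a c * g) : kk a (b * c) = kk a b * kk a c := by
  calc kk a (b * c) = kk a b * (b * kk a c * b⁻¹) := by simp [kk, mul_assoc]
    _ = _ := by rw [h b, mul_inv_cancel_right]

end kk

namespace Setup

variable {P : Type*} [Group P] [Finite P] {n : ℕ} (S : Setup P n)

include S

theorem kk_mem_left {c : P} (hc : c ∈ S.C) (g : P) : kk c g = 1 := kk_eq_one.2 (S.Cc hc g).symm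

theorem kk_mem_right {c : P} (hc : c ∈ S.C) (g : P) : kk g c = 1 := kk_eq_one.2 (S.Cc hc g)

omit [Finite P] in
theorem rhoC {c : P} (hc : c ∈ S.C) : S.ρ c ∈ S.C := by simpa using S.invC 1 hc

omit [Finite P] in
theorem comm_one (x : P) : S.α (S.ρ x) = S.ρ (S.α x) := by simpa using S.comm_pow 1 x

theorem exists_ne : ∃ c ∈ S.C, c ≠ 1 := by
  have h : 1 < Nat.card S.C := by rw [S.cardC]; exact Nat.one_lt_two_pow (by have := S.two_le; omega)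
  haveI := Finite.one_lt_card_iff_nontrivial.1 h
  obtain ⟨c, hc⟩ := _root_.exists_ne (1 : S.C)
  exact ⟨c, c.2, fun e => hc (Subtype.ext e)⟩

/-- The displacement. -/
def δ (x : P) : P := x⁻¹ * S.α x

theorem δ_eq_one {x : P} : S.δ x = 1 ↔ x ∈ S.C := by
  rw [δ, inv_mul_eq_one, ← S.fix]
  exact eq_comm

theorem δ_mul {x y : P} (hx : S.δ x ∈ S.C) : S.δ (x * y) = S.δ x * S.δ y := by
  calc S.δ (x * y) = y⁻¹ * S.δ x * S.α y := by rw [δ, δ, map_mul]; group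
    _ = S.δ x * y⁻¹ * S.α y := by rw [S.Cc hx]
    _ = _ := by rw [δ, δ, mul_assoc]

theorem δ_rho (x : P) : S.δ (S.ρ x) = S.ρ (S.δ x) := by
  rw [δ, δ, map_mul, map_inv, S.comm_one]

theorem α_δ (x : P) : S.α (S.δ x) = (S.δ x)⁻¹ := by
  rw [δ, map_mul, map_inv, S.invol, mul_inv_rev, inv_inv]

/-- The first layer. -/
def F1 : Subgroup P where
  carrier := {x | S.δ x ∈ S.C}
  one_mem' := by simp [δ]
  mul_mem' := fun {x y} hx hy => by
    show S.δ (x * y) ∈ S.C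
    rw [S.δ_mul hx]; exact mul_mem hx hy
  inv_mem' := fun {x} hx => by
    show S.δ x⁻¹ ∈ S.C
    have h := S.δ_mul (y := x⁻¹) hx
    rw [mul_inv_cancel, S.δ_eq_one.2 (one_mem _)] at h
    rw [eq_inv_of_mul_eq_one_right h.symm]
    exact inv_mem hx

theorem mem_F1 {x : P} : x ∈ S.F1 ↔ S.δ x ∈ S.C := Iff.rfl

theorem C_le_F1 : S.C ≤ S.F1 := fun c hc => by rw [mem_F1, S.δ_eq_one.2 hc]; exact one_mem _

theorem α_F1 {x : P} (hx : x ∈ S.F1) : S.α x ∈ S.F1 := by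
  rw [mem_F1]
  show (S.α x)⁻¹ * S.α (S.α x) ∈ S.C
  rw [← map_inv, ← map_mul, show S.α (x⁻¹ * S.α x) = x⁻¹ * S.α x from (S.fix _).2 hx]
  exact hx

theorem ρ_F1 {x : P} (hx : x ∈ S.F1) : S.ρ x ∈ S.F1 := by
  rw [mem_F1, S.δ_rho]; exact S.rhoC hx

theorem eq_of_δ {f g : P} (hg : g ∈ S.F1) (h : S.δ f = S.δ g) : ∃ c ∈ S.C, f = g * c := by
  refine ⟨g⁻¹ * f, ?_, by group⟩
  have hf : f ∈ S.F1 := by rw [mem_F1, h]; exact hg
  rw [← S.δ_eq_one, S.δ_mul (show S.δ g⁻¹ ∈ S.C from inv_mem hg), h,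
    ← S.δ_mul (show S.δ g⁻¹ ∈ S.C from inv_mem hg), inv_mul_cancel, S.δ_eq_one]
  exact one_mem _

theorem δ_surj (hne : ∃ x, x ∉ S.C) : ∀ c ∈ S.C, ∃ f ∈ S.F1, S.δ f = c := by
  obtain ⟨f, hf, hfC⟩ : ∃ f ∈ S.F1, f ∉ S.C := by
    by_contra hcon
    push Not at hcon
    obtain ⟨x, hx⟩ := hne
    exact hx (S.le_of_no_fixed ⊤ S.C (fun _ _ => Subgroup.mem_top _)
      (fun c hc => by rwa [(S.fix c).2 hc]) (fun y _ h => hcon y h) (Subgroup.mem_top x))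
  intro c hc
  by_cases hc1 : c = 1
  · exact ⟨1, one_mem _, by rw [hc1]; simp [δ]⟩
  obtain ⟨k, hk⟩ := S.trans _ hf c hc (fun e => hfC (S.δ_eq_one.1 e)) hc1
  have hpow : ∀ j : ℕ, (S.ρ ^ j) f ∈ S.F1 ∧ S.δ ((S.ρ ^ j) f) = (S.ρ ^ j) (S.δ f) := fun j => by
    induction j with
    | zero => exact ⟨hf, rfl⟩
    | succ j ih =>
      rw [pow_succ', MulAut.mul_apply, MulAut.mul_apply, S.δ_rho, ih.2]
      exact ⟨S.ρ_F1 ih.1, rfl⟩
  exact ⟨(S.ρ ^ k) f, (hpow k).1, (hpow k).2.trans hk⟩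

/-- A subgroup of `C` given by an invariant nontrivial image is everything. -/
theorem eq_C_of_invariant (K : Subgroup P) (hK : K ≤ S.C) (hρ : ∀ x ∈ K, S.ρ x ∈ K) (h1 : K ≠ ⊥) :
    K = S.C :=
  le_antisymm hK (S.C_le_of_invariant K (fun x hx => by rwa [(S.fix x).2 (hK hx)]) hρ h1)

/-- A pairing between two layers which map onto `C`. -/
theorem pairing_lift (A B : Subgroup P) (p q : P → P) (b : P → P → P)
    (hAρ : ∀ a ∈ A, S.ρ a ∈ A) (hBρ : ∀ a ∈ B, S.ρ a ∈ B)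
    (hpC : ∀ a ∈ A, p a ∈ S.C) (hqC : ∀ a ∈ B, q a ∈ S.C)
    (hpm : ∀ a ∈ A, ∀ a' ∈ A, p (a * a') = p a * p a') (hps : ∀ c ∈ S.C, ∃ a ∈ A, p a = c)
    (hpρ : ∀ a ∈ A, p (S.ρ a) = S.ρ (p a))
    (hqm : ∀ a ∈ B, ∀ a' ∈ B, q (a * a') = q a * q a') (hqs : ∀ c ∈ S.C, ∃ a ∈ B, q a = c)
    (hqρ : ∀ a ∈ B, q (S.ρ a) = S.ρ (q a))
    (hb : ∀ a ∈ A, ∀ x ∈ B, b a x ∈ S.C)
    (hl : ∀ a ∈ A, ∀ a' ∈ A, ∀ x ∈ B, b (a * a') x = b a x * b a' x)
    (hr : ∀ a ∈ A, ∀ x ∈ B, ∀ x' ∈ B, b a (x * x') = b a x * b a x')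
    (he : ∀ a ∈ A, ∀ x ∈ B, b (S.ρ a) (S.ρ x) = S.ρ (b a x))
    (hkl : ∀ a ∈ A, ∀ x ∈ B, p a = 1 → b a x = 1) (hkr : ∀ a ∈ A, ∀ x ∈ B, q x = 1 → b a x = 1) :
    ((∀ a ∈ A, ∀ x ∈ B, b a x = 1) ∨ ∀ a ∈ A, ∀ x ∈ B, b a x = 1 → p a = 1 ∨ q x = 1) ∧
      ((∀ a ∈ A, ∀ x ∈ B, p a = q x → b a x = 1) → ∀ a ∈ A, ∀ x ∈ B, b a x = 1) := by
  classical
  choose! g hgA hg using hps
  choose! h hhB hh using hqs
  have hwl : ∀ a ∈ A, ∀ a' ∈ A, ∀ x ∈ B, p a = p a' → b a x = b a' x := by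
    intro a ha a' ha' x hx hpa
    have h1 : p (a'⁻¹ * a) = 1 := by
      have h2 := hpm a' ha' (a'⁻¹ * a) (mul_mem (inv_mem ha') ha)
      rw [mul_inv_cancel_left, hpa] at h2
      exact left_eq_mul.1 h2
    have h3 := hl a' ha' (a'⁻¹ * a) (mul_mem (inv_mem ha') ha) x hx
    rwa [mul_inv_cancel_left, hkl _ (mul_mem (inv_mem ha') ha) x hx h1, mul_one] at h3
  have hwr : ∀ a ∈ A, ∀ x ∈ B, ∀ x' ∈ B, q x = q x' → b a x = b a x' := by
    intro a ha x hx x' hx' hqa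
    have h1 : q (x'⁻¹ * x) = 1 := by
      have h2 := hqm x' hx' (x'⁻¹ * x) (mul_mem (inv_mem hx') hx)
      rw [mul_inv_cancel_left, hqa] at h2
      exact left_eq_mul.1 h2
    have h3 := hr a ha x' hx' (x'⁻¹ * x) (mul_mem (inv_mem hx') hx)
    rwa [mul_inv_cancel_left, hkr a ha _ (mul_mem (inv_mem hx') hx) h1, mul_one] at h3
  obtain ⟨P1, P2⟩ := S.pairing (fun u v => b (g u) (h v))
    (fun u hu v hv => hb _ (hgA u hu) _ (hhB v hv))
    (fun u hu u' hu' v hv => by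
      rw [← hl _ (hgA u hu) _ (hgA u' hu') _ (hhB v hv)]
      exact hwl _ (hgA _ (mul_mem hu hu')) _ (mul_mem (hgA u hu) (hgA u' hu')) _ (hhB v hv)
        (by rw [hg _ (mul_mem hu hu'), hpm _ (hgA u hu) _ (hgA u' hu'), hg u hu, hg u' hu']))
    (fun u hu v hv v' hv' => by
      rw [← hr _ (hgA u hu) _ (hhB v hv) _ (hhB v' hv')]
      exact hwr _ (hgA u hu) _ (hhB _ (mul_mem hv hv')) _ (mul_mem (hhB v hv) (hhB v' hv'))
        (by rw [hh _ (mul_mem hv hv'), hqm _ (hhB v hv) _ (hhB v' hv'), hh v hv, hh v' hv']))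
    (fun u hu v hv => by
      rw [← he _ (hgA u hu) _ (hhB v hv)]
      rw [hwl _ (hgA _ (S.rhoC hu)) _ (hAρ _ (hgA u hu)) _ (hhB _ (S.rhoC hv))
        (by rw [hg _ (S.rhoC hu), hpρ _ (hgA u hu), hg u hu])]
      exact hwr _ (hAρ _ (hgA u hu)) _ (hhB _ (S.rhoC hv)) _ (hBρ _ (hhB v hv))
        (by rw [hh _ (S.rhoC hv), hqρ _ (hhB v hv), hh v hv]))
  have hkey : ∀ a ∈ A, ∀ x ∈ B, b a x = b (g (p a)) (h (q x)) := fun a ha x hx => by
    rw [hwl a ha _ (hgA _ (hpC a ha)) x hx (hg _ (hpC a ha)).symm,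
      hwr _ (hgA _ (hpC a ha)) x hx _ (hhB _ (hqC x hx)) (hh _ (hqC x hx)).symm]
  constructor
  · rcases P1 with H | H
    · exact Or.inl fun a ha x hx => (hkey a ha x hx).trans (H _ (hpC a ha) _ (hqC x hx))
    · exact Or.inr fun a ha x hx hb1 => H _ (hpC a ha) _ (hqC x hx) ((hkey a ha x hx).symm.trans hb1)
  · intro halt a ha x hx
    refine (hkey a ha x hx).trans (P2 (fun u hu => halt _ (hgA u hu) _ (hhB u hu) ?_) _ (hpC a ha) _ (hqC x hx))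
    rw [hg u hu, hh u hu]

/-- The first layer is abelian. -/
theorem F1_comm (hne : ∃ x, x ∉ S.C) {f g : P} (hf : f ∈ S.F1) (hg : g ∈ S.F1) : kk f g = 1 := by
  have hkC : ∀ a ∈ S.F1, ∀ x ∈ S.F1, kk a x ∈ S.C := by
    intro a ha x hx
    have hi : ∀ y ∈ S.F1, S.δ y⁻¹ = (S.δ y)⁻¹ := fun y hy => by
      refine eq_inv_of_mul_eq_one_right ?_
      rw [← S.δ_mul hy, mul_inv_cancel, S.δ_eq_one]
      exact one_mem _
    rw [← S.δ_eq_one, kk, S.δ_mul (S.mem_F1.1 (mul_mem (mul_mem ha hx) (inv_mem ha))),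
      S.δ_mul (S.mem_F1.1 (mul_mem ha hx)), S.δ_mul ha, hi a ha, hi x hx,
      S.Cc (show S.δ x ∈ S.C from hx) (S.δ a)]
    group
  refine (S.pairing_lift S.F1 S.F1 S.δ S.δ kk (fun _ h => S.ρ_F1 h) (fun _ h => S.ρ_F1 h)
    (fun _ h => h) (fun _ h => h)
    (fun a ha a' _ => S.δ_mul ha) (S.δ_surj hne) (fun a _ => S.δ_rho a)
    (fun a ha a' _ => S.δ_mul ha) (S.δ_surj hne) (fun a _ => S.δ_rho a) hkC
    (fun a ha a' ha' x hx => kk_mul_left fun g => S.Cc (hkC a' ha' x hx) g)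
    (fun a ha x hx x' hx' => kk_mul_right fun g => S.Cc (hkC a ha x' hx') g)
    (fun a ha x hx => (map_kk S.ρ a x).symm)
    (fun a _ x _ h => S.kk_mem_left (S.δ_eq_one.1 h) x)
    (fun a _ x _ h => S.kk_mem_right (S.δ_eq_one.1 h) a)).2 ?_ f hf g hg
  intro a ha x hx h
  obtain ⟨c, hc, rfl⟩ := S.eq_of_δ hx h
  rw [kk_eq_one, mul_assoc, ← S.Cc hc x, ← mul_assoc]

/-- The quotient by the fixed group. -/
theorem exists_quot [S.C.Normal] (hne : ∃ x, x ∉ S.C) :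
    ∃ T : Setup (P ⧸ S.C) n, (∀ x : P, T.α (x : P ⧸ S.C) = ((S.α x : P) : P ⧸ S.C)) ∧
      (∀ x : P, T.ρ (x : P ⧸ S.C) = ((S.ρ x : P) : P ⧸ S.C)) ∧
      (∀ x : P, (x : P ⧸ S.C) ∈ T.C ↔ x ∈ S.F1) := by
  have hmap : ∀ f : MulAut P, (∀ c ∈ S.C, f c ∈ S.C) → S.C.map f.toMonoidHom = S.C := fun f hf =>
    Subgroup.eq_of_le_of_card_ge (by rintro _ ⟨c, hc, rfl⟩; exact hf c hc)
      (le_of_eq (Nat.card_congr (S.C.equivMapOfInjective f.toMonoidHom f.injective).toEquiv))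
  let αQ : MulAut (P ⧸ S.C) :=
    QuotientGroup.congr _ _ S.α (hmap S.α fun c hc => by rwa [(S.fix c).2 hc])
  let ρQ : MulAut (P ⧸ S.C) := QuotientGroup.congr _ _ S.ρ (hmap S.ρ fun c hc => S.rhoC hc)
  have hα : ∀ x : P, αQ (x : P ⧸ S.C) = ((S.α x : P) : P ⧸ S.C) := fun x => rfl
  have hρ : ∀ x : P, ρQ (x : P ⧸ S.C) = ((S.ρ x : P) : P ⧸ S.C) := fun x => rfl
  have hρk : ∀ (k : ℕ) (x : P), (ρQ ^ k) (x : P ⧸ S.C) = (((S.ρ ^ k) x : P) : P ⧸ S.C) := by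
    intro k
    induction k with
    | zero => intro x; rfl
    | succ k ih => intro x; rw [pow_succ', pow_succ', MulAut.mul_apply, MulAut.mul_apply, ih, hρ]
  have hW : ∀ x : P, (x : P ⧸ S.C) ∈ S.F1.map (QuotientGroup.mk' S.C) ↔ x ∈ S.F1 := by
    intro x
    refine ⟨fun ⟨y, hy, hyx⟩ => ?_, fun h => ⟨x, h, rfl⟩⟩
    have h := QuotientGroup.eq.1 (show (y : P ⧸ S.C) = x from hyx)
    simpa using mul_mem hy (S.C_le_F1 h)
  refine ⟨{ α := αQ, ρ := ρQ, C := S.F1.map (QuotientGroup.mk' S.C),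
            isP := S.isP.to_quotient _, two_le := S.two_le,
            invol := fun q => ?_, comm := ?_, period := ?_, fix := fun q => ?_, expC := ?_, cardC := ?_,
            trans := ?_ }, hα, hρ, hW⟩
  · obtain ⟨x, rfl⟩ := QuotientGroup.mk_surjective q
    rw [hα, hα, S.invol]
  · refine MulEquiv.ext fun q => ?_
    obtain ⟨x, rfl⟩ := QuotientGroup.mk_surjective q
    rw [MulAut.mul_apply, MulAut.mul_apply, hρ, hα, hα, hρ, S.comm_one]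
  · refine MulEquiv.ext fun q => ?_
    obtain ⟨x, rfl⟩ := QuotientGroup.mk_surjective q
    rw [hρk, S.period]; rfl
  · obtain ⟨x, rfl⟩ := QuotientGroup.mk_surjective q
    rw [hW, hα, eq_comm, QuotientGroup.eq]
    exact Iff.rfl
  · rintro _ ⟨f, hf, rfl⟩
    rw [← map_mul]
    refine (QuotientGroup.eq_one_iff _).2 (S.δ_eq_one.1 ?_)
    rw [S.δ_mul hf, S.expC _ hf]
  · let D : S.F1 →* S.C :=
      MonoidHom.mk' (fun f => ⟨S.δ f, f.2⟩) fun f g => Subtype.ext (S.δ_mul f.2)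
    have hD : Function.Surjective D := fun c => by
      obtain ⟨f, hf, hfc⟩ := S.δ_surj hne c c.2
      exact ⟨⟨f, hf⟩, Subtype.ext hfc⟩
    have hker : D.ker = ((QuotientGroup.mk' S.C).comp S.F1.subtype).ker := by
      ext f
      rw [MonoidHom.mem_ker, MonoidHom.mem_ker, Subtype.ext_iff]
      show S.δ f = 1 ↔ ((f : P) : P ⧸ S.C) = 1
      rw [QuotientGroup.eq_one_iff, S.δ_eq_one]
    have hr : ((QuotientGroup.mk' S.C).comp S.F1.subtype).range = S.F1.map (QuotientGroup.mk' S.C) := by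
      rw [MonoidHom.range_eq_map, ← Subgroup.map_map, ← MonoidHom.range_eq_map, Subgroup.range_subtype]
    rw [← hr, ← Subgroup.index_ker, ← hker, Subgroup.index_ker, MonoidHom.range_eq_top.2 hD,
      Subgroup.card_top, S.cardC]
  · rintro _ ⟨f, hf, rfl⟩ _ ⟨g, hg, rfl⟩ hf1 hg1
    have hf1' : S.δ f ≠ 1 := fun e => hf1 ((QuotientGroup.eq_one_iff _).2 (S.δ_eq_one.1 e))
    have hg1' : S.δ g ≠ 1 := fun e => hg1 ((QuotientGroup.eq_one_iff _).2 (S.δ_eq_one.1 e))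
    obtain ⟨k, hk⟩ := S.trans _ hf _ hg hf1' hg1'
    refine ⟨k, ?_⟩
    show (ρQ ^ k) (f : P ⧸ S.C) = (g : P ⧸ S.C)
    rw [hρk]
    have hδ : ∀ j : ℕ, S.δ ((S.ρ ^ j) f) = (S.ρ ^ j) (S.δ f) := fun j => by
      induction j with
      | zero => rfl
      | succ j ih => rw [pow_succ', MulAut.mul_apply, MulAut.mul_apply, S.δ_rho, ih]
    obtain ⟨c, hc, e⟩ := S.eq_of_δ hg ((hδ k).trans hk)
    rw [e, QuotientGroup.mk_mul, (QuotientGroup.eq_one_iff c).2 hc, mul_one]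

end Setup

end Cfsg.Agent.SingerFixed
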