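import Mathlib
import Cfsg.Agent.Lib.RankTwoInvol.Singer.Layer

/-!
In the non-abelian case squares lie in the fixed group and the order is `q ^ 3`.
-/

set_option autoImplicit false
set_option linter.all false

namespace Cfsg.Agent.SingerFixed

namespace Setup

universe u

/-- An abelian group with an element of order above two: a power map onto the fixed group. -/
theorem abelian_power {A : Type*} [Group A] [Finite A] {n : ℕ} (T : Setup A n)
    (hab : ∀ a b : A, a * b = b * a) (hsq : ∃ a : A, a * a ≠ 1) :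
    ∃ k : ℕ, (∀ a : A, a ^ 2 ^ k ∈ T.C) ∧ (∀ c ∈ T.C, ∃ a : A, a ^ 2 ^ k = c) ∧
      ∀ a : A, a ^ 2 ^ k = 1 → ∃ b : A, a = b * b := by
  classical
  letI : CommGroup A := { (inferInstance : Group A) with mul_comm := hab }
  haveI : Fact (Nat.Prime 2) := ⟨Nat.prime_two⟩
  have hne : ∃ x, x ∉ T.C := hsq.imp fun a ha h => ha (T.expC a h)
  have hinF : ∀ o : A, o * o = 1 → o ∈ T.F1 := by
    intro o ho
    rw [mem_F1, ← T.fix, T.α_δ, δ, inv_eq_iff_mul_eq_one]
    have h : T.α o * T.α o = 1 := by rw [← map_mul, ho, map_one]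
    calc o⁻¹ * T.α o * (o⁻¹ * T.α o) = (o * o)⁻¹ * (T.α o * T.α o) := by
          rw [mul_inv_rev, mul_mul_mul_comm]
      _ = 1 := by rw [ho, h, inv_one, one_mul]
  have hO : ∀ o : A, o * o = 1 → o ∈ T.C := by
    intro o ho
    by_contra hoC
    -- every element of the first layer is an involution
    have hF : ∀ f ∈ T.F1, f * f = 1 := by
      intro f hf
      by_cases hf1 : T.δ f = 1
      · exact T.expC f (T.δ_eq_one.1 hf1)
      obtain ⟨k, hk⟩ := T.trans _ (hinF o ho) _ hf (fun e => hoC (T.δ_eq_one.1 e)) hf1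
      have hδ : ∀ j : ℕ, T.δ ((T.ρ ^ j) o) = (T.ρ ^ j) (T.δ o) := fun j => by
        induction j with
        | zero => rfl
        | succ j ih => rw [pow_succ', MulAut.mul_apply, MulAut.mul_apply, T.δ_rho, ih]
      have h2 : (T.ρ ^ k) o * (T.ρ ^ k) o = 1 := by rw [← map_mul, ho, map_one]
      obtain ⟨c, hc, rfl⟩ := T.eq_of_δ (hinF _ h2) ((hδ k).trans hk).symm
      rw [mul_mul_mul_comm, h2, T.expC c hc, one_mul]
    let Sq : Subgroup A :=
      { carrier := {a | ∃ b, b * b = a ∧ a * a = 1}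
        one_mem' := ⟨1, by simp, by simp⟩
        mul_mem' := fun {x y} ⟨b, hb, hx⟩ ⟨b', hb', hy⟩ =>
          ⟨b * b', by rw [mul_mul_mul_comm, hb, hb'], by rw [mul_mul_mul_comm, hx, hy, one_mul]⟩
        inv_mem' := fun {x} ⟨b, hb, hx⟩ =>
          ⟨b⁻¹, by rw [← mul_inv_rev, hb], by rw [← mul_inv_rev, hx, inv_one]⟩ }
    have hinv : ∀ (f : MulAut A), ∀ x ∈ Sq, f x ∈ Sq := by
      rintro f x ⟨b, hb, hx⟩
      exact ⟨f b, by rw [← map_mul, hb], by rw [← map_mul, hx, map_one]⟩
    have hSq : Sq ≠ ⊥ := by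
      obtain ⟨a, ha⟩ := hsq
      obtain ⟨m, hm⟩ := IsPGroup.iff_orderOf.1 T.isP a
      have hm2 : 2 ≤ m := by
        by_contra hlt
        apply ha
        rw [← pow_two, ← orderOf_dvd_iff_pow_eq_one, hm]
        exact (pow_dvd_pow 2 (show m ≤ 1 by omega))
      obtain ⟨i, rfl⟩ : ∃ i, m = i + 2 := ⟨m - 2, by omega⟩
      set b := a ^ 2 ^ i with hb
      have hb4 : b * b * (b * b) = 1 := by
        rw [← pow_two b, ← pow_two (b ^ 2), hb, ← pow_mul, ← pow_mul,
          show 2 ^ i * (2 * 2) = 2 ^ (i + 2) by ring, ← hm, pow_orderOf_eq_one]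
      have hb1 : b * b ≠ 1 := by
        rw [← pow_two, hb, ← pow_mul, ← pow_succ]
        exact pow_ne_one_of_lt_orderOf (by positivity) (hm ▸ Nat.pow_lt_pow_right one_lt_two (by omega))
      exact fun h => hb1 (Subgroup.mem_bot.1 (h ▸ (show b * b ∈ Sq from ⟨b, rfl, hb4⟩)))
    obtain ⟨w, hw, hw1⟩ := T.exists_ne
    obtain ⟨y, hy, -⟩ := T.C_le_of_invariant Sq (hinv T.α) (hinv T.ρ) hSq hw
    have hu : T.δ y * T.δ y = 1 := by
      rw [δ, mul_mul_mul_comm, ← mul_inv_rev, ← map_mul, hy, (T.fix w).2 hw, inv_mul_cancel]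
    have huC : T.δ y ∈ T.C := by
      rw [← T.fix, T.α_δ, inv_eq_of_mul_eq_one_right hu]
    exact hw1 (hy ▸ hF y huC)
  have hex : ∃ m, ∀ a : A, a ^ 2 ^ m = 1 := by
    obtain ⟨m, hm⟩ := T.isP.exists_card_eq
    exact ⟨m, fun a => hm ▸ pow_card_eq_one'⟩
  obtain ⟨k, hk⟩ : ∃ k, Nat.find hex = k + 1 := by
    refine ⟨Nat.find hex - 1, ?_⟩
    have : Nat.find hex ≠ 0 := fun h => by
      obtain ⟨a, ha⟩ := hsq
      have h1 := Nat.find_spec hex a
      rw [h, pow_zero, pow_one] at h1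
      exact ha (by rw [h1, one_mul])
    omega
  have hkC : ∀ a : A, a ^ 2 ^ k ∈ T.C := fun a => hO _ (by
    rw [← pow_two, ← pow_mul, ← pow_succ, ← hk, Nat.find_spec hex])
  let ψ : A →* A := powMonoidHom (2 ^ k)
  have hψ1 : ψ.range ≠ ⊥ := by
    have h := Nat.find_min hex (show k < Nat.find hex by omega)
    push Not at h
    obtain ⟨a, ha⟩ := h
    exact fun hb => ha (Subgroup.mem_bot.1 (hb ▸ (⟨a, rfl⟩ : a ^ 2 ^ k ∈ ψ.range)))
  have hψC : ψ.range = T.C := T.eq_C_of_invariant _ (by rintro _ ⟨a, rfl⟩; exact hkC a)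
    (by rintro _ ⟨a, rfl⟩; exact ⟨T.ρ a, (map_pow T.ρ a _).symm⟩) hψ1
  refine ⟨k, hkC, fun c hc => by rw [← hψC] at hc; exact hc, fun a ha => ?_⟩
  let sq : A →* A := powMonoidHom 2
  have hkersq : sq.ker = T.C := by
    ext o
    show o ^ 2 = 1 ↔ _
    rw [pow_two]
    exact ⟨hO o, T.expC o⟩
  have hle : sq.range ≤ ψ.ker := by
    rintro _ ⟨b, rfl⟩
    show (b ^ 2) ^ 2 ^ k = 1
    rw [← pow_mul, ← pow_succ', ← hk, Nat.find_spec hex]
  have h1 := sq.ker.card_mul_index
  rw [Subgroup.index_ker, hkersq, T.cardC] at h1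
  have h2 := ψ.ker.card_mul_index
  rw [Subgroup.index_ker, hψC, T.cardC] at h2
  have hcard : Nat.card sq.range = Nat.card ψ.ker := by
    have h3 : 2 ^ n * Nat.card sq.range = 2 ^ n * Nat.card ψ.ker := by
      rw [h1, mul_comm, h2]
    exact Nat.eq_of_mul_eq_mul_left (by positivity) h3
  have heq := Subgroup.eq_of_le_of_card_ge hle (le_of_eq hcard.symm)
  have hmem : a ∈ sq.range := by rw [heq]; exact ha
  obtain ⟨b, hb⟩ := hmem
  exact ⟨b, by rw [← pow_two]; exact hb.symm⟩

theorem eq_F1_of_abelian_F1 {P : Type*} [Group P] [Finite P] {n : ℕ} (S : Setup P n)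
    (h : ∀ f ∈ S.F1, f * f = 1) : S.F1 = ⊤ := by
  refine top_le_iff.1 (S.le_of_no_fixed ⊤ S.F1 (fun _ _ => Subgroup.mem_top _)
    (fun _ hf => S.α_F1 hf) fun x _ hu => ?_)
  rw [mem_F1, ← S.fix, S.α_δ]
  exact inv_eq_of_mul_eq_one_right (h _ hu)

theorem main {n : ℕ} : ∀ N : ℕ, ∀ {P : Type u} [Group P] [Finite P] (S : Setup P n), Nat.card P = N →
    (∃ a b : P, a * b ≠ b * a) →
    (∀ x : P, x * x ∈ S.C) ∧ (∀ a b : P, kk a b ∈ S.C) ∧ Nat.card P = (2 ^ n) ^ 3 := by
  intro N
  induction N using Nat.strong_induction_on with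
  | _ N IH =>
  intro P _ _ S hN hna
  classical
  haveI := S.Cnormal
  obtain ⟨a₀, b₀, hab₀⟩ := hna
  have hne : ∃ x, x ∉ S.C := ⟨a₀, fun h => hab₀ (S.Cc h b₀).symm⟩
  have hF1ne : S.F1 ≠ ⊤ := fun h => hab₀ (kk_eq_one.1
    (S.F1_comm hne (h ▸ Subgroup.mem_top a₀) (h ▸ Subgroup.mem_top b₀)))
  obtain ⟨T, hTα, hTρ, hTC⟩ := S.exists_quot hne
  have hneT : ∃ q, q ∉ T.C := by
    by_contra hcon
    push Not at hcon
    exact hF1ne ((Subgroup.eq_top_iff' _).2 fun x => (hTC x).1 (hcon _))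
  have hqcard : Nat.card P = 2 ^ n * Nat.card (P ⧸ S.C) := by
    rw [Subgroup.card_eq_card_quotient_mul_card_subgroup S.C, S.cardC, mul_comm]
  have hkk : ∀ a b : P, ((kk a b : P) : P ⧸ S.C) = kk (a : P ⧸ S.C) b := fun a b =>
    map_kk (QuotientGroup.mk' S.C) a b
  by_cases hab : ∀ a b : P ⧸ S.C, a * b = b * a
  · have hk : ∀ a b : P, kk a b ∈ S.C := fun a b => by
      rw [← QuotientGroup.eq_one_iff, hkk, kk_eq_one]
      exact hab _ _
    by_cases hsq : ∀ a : P ⧸ S.C, a * a = 1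
    · refine ⟨fun x => (QuotientGroup.eq_one_iff _).1 (hsq (x : P ⧸ S.C)), hk, ?_⟩
      -- the displacement of the quotient
      have hTF : T.F1 = ⊤ := T.eq_F1_of_abelian_F1 fun f _ => hsq f
      have hmem : ∀ q, T.δ q ∈ T.C := fun q => T.mem_F1.1 (by rw [hTF]; exact Subgroup.mem_top q)
      let D : P ⧸ S.C →* T.C := MonoidHom.mk' (fun q => ⟨T.δ q, hmem q⟩) fun a b =>
        Subtype.ext (T.δ_mul (hmem a))
      have hker : D.ker = T.C := by
        ext q
        rw [MonoidHom.mem_ker, Subtype.ext_iff]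
        exact T.δ_eq_one
      have hsurj : Function.Surjective D := fun c => by
        obtain ⟨f, -, hfc⟩ := T.δ_surj hneT c c.2
        exact ⟨f, Subtype.ext hfc⟩
      have h := D.ker.card_mul_index
      rw [Subgroup.index_ker, MonoidHom.range_eq_top.2 hsurj, Subgroup.card_top, hker, T.cardC] at h
      rw [hqcard, ← h]; ring
    · exfalso
      push Not at hsq
      obtain ⟨k, hk1, hk2, hk3⟩ := T.abelian_power hab hsq
      let p : P → P := fun x => S.δ (x ^ 2 ^ k)
      have hxk : ∀ x : P, x ^ 2 ^ k ∈ S.F1 := fun x => (hTC _).1 (by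
        rw [QuotientGroup.mk_pow]; exact hk1 _)
      letI : CommGroup (P ⧸ S.C) := { (inferInstance : Group (P ⧸ S.C)) with mul_comm := hab }
      have hδc : ∀ x y : P, y ∈ S.F1 → (x : P ⧸ S.C) = y → S.δ x = S.δ y := fun x y hy h => by
        have hc := QuotientGroup.eq.1 h.symm
        rw [show x = y * (y⁻¹ * x) by group, S.δ_mul hy, S.δ_eq_one.2 hc, mul_one]
      have hpm : ∀ x ∈ (⊤ : Subgroup P), ∀ y ∈ (⊤ : Subgroup P), p (x * y) = p x * p y := fun x _ y _ => by
        show S.δ _ = S.δ _ * S.δ _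
        rw [← S.δ_mul (hxk x)]
        refine hδc _ _ (mul_mem (hxk x) (hxk y)) ?_
        simp only [QuotientGroup.mk_pow, QuotientGroup.mk_mul, mul_pow]
      have hps : ∀ c ∈ S.C, ∃ x ∈ (⊤ : Subgroup P), p x = c := fun c hc => by
        obtain ⟨f, hf, rfl⟩ := S.δ_surj hne c hc
        obtain ⟨a, ha⟩ := hk2 (f : P ⧸ S.C) ((hTC f).2 hf)
        obtain ⟨x, rfl⟩ := QuotientGroup.mk_surjective a
        exact ⟨x, Subgroup.mem_top x, hδc _ _ hf (by rw [QuotientGroup.mk_pow]; exact ha)⟩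
      have hkill : ∀ x y : P, p x = 1 → kk x y = 1 := by
        intro x y h
        have hx := S.δ_eq_one.1 h
        obtain ⟨b, hb⟩ := hk3 (x : P ⧸ S.C) (by
          rw [← QuotientGroup.mk_pow]; exact (QuotientGroup.eq_one_iff _).2 hx)
        obtain ⟨b, rfl⟩ := QuotientGroup.mk_surjective b
        have hc := QuotientGroup.eq.1 ((QuotientGroup.mk_mul S.C b b).trans hb.symm)
        rw [show x = b * b * ((b * b)⁻¹ * x) by group,
          kk_mul_left fun g => by rw [S.kk_mem_left hc y, mul_one, one_mul],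
          S.kk_mem_left hc y, mul_one, kk_mul_left fun g => S.Cc (hk b y) g, S.expC _ (hk b y)]
      have h0 := (S.pairing_lift ⊤ ⊤ p p kk (fun _ _ => Subgroup.mem_top _) (fun _ _ => Subgroup.mem_top _)
        (fun x _ => hxk x) (fun x _ => hxk x) hpm hps
        (fun x _ => by show S.δ _ = S.ρ (S.δ _); rw [← S.δ_rho, map_pow])
        hpm hps (fun x _ => by show S.δ _ = S.ρ (S.δ _); rw [← S.δ_rho, map_pow])
        (fun a _ x _ => hk a x) (fun a _ a' _ x _ => kk_mul_left fun g => S.Cc (hk a' x) g)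
        (fun a _ x _ x' _ => kk_mul_right fun g => S.Cc (hk a x') g)
        (fun a _ x _ => (map_kk S.ρ a x).symm)
        (fun a _ x _ h => hkill a x h)
        (fun a _ x _ h => by rw [kk_swap, hkill x a h, inv_one])).2 ?_ a₀ (Subgroup.mem_top _) b₀
          (Subgroup.mem_top _)
      · exact hab₀ (kk_eq_one.1 h0)
      intro a ha x hx h
      have h1 : p (x⁻¹ * a) = 1 := by
        have h2 := hpm x hx (x⁻¹ * a) (Subgroup.mem_top _)
        rw [mul_inv_cancel_left, h] at h2
        exact left_eq_mul.1 h2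
      have h3 := hkill (x⁻¹ * a) x h1
      calc kk a x = kk (x * (x⁻¹ * a)) x := by rw [mul_inv_cancel_left]
        _ = 1 := by rw [kk_mul_left fun g => S.Cc (hk _ x) g, kk_self, h3, one_mul]
  · exfalso
    push Not at hab
    obtain ⟨x₁, y₁, hxy₁⟩ := hab
    have hlt : Nat.card (P ⧸ S.C) < N := by
      rw [← hN, hqcard]
      exact lt_mul_left Nat.card_pos (Nat.one_lt_two_pow (by have := S.two_le; omega))
    obtain ⟨hTsq, hTk, hTcard⟩ := IH _ hlt T rfl ⟨x₁, y₁, hxy₁⟩
    have hsqF : ∀ x : P, x * x ∈ S.F1 := fun x => (hTC _).1 (hTsq (x : P ⧸ S.C))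
    have hkF : ∀ a b : P, kk a b ∈ S.F1 := fun a b => (hTC _).1 (by rw [hkk]; exact hTk _ _)
    have hkC : ∀ x : P, ∀ f ∈ S.F1, kk x f ∈ S.C := fun x f hf => by
      rw [← QuotientGroup.eq_one_iff, hkk]
      exact T.kk_mem_right ((hTC f).2 hf) _
    by_cases hM : ∀ x : P, ∀ f ∈ S.F1, kk x f = 1
    · -- the first layer is central
      have hcen : ∀ f ∈ S.F1, ∀ g : P, g * f = f * g := fun f hf g => kk_eq_one.1 (hM g f hf)
      have hk2 : ∀ a b : P, kk a b * kk a b = 1 := fun a b => by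
        rw [← kk_mul_left fun g => hcen _ (hkF a b) g, kk_eq_one]
        exact (hcen _ (hsqF a) b).symm
      obtain ⟨x, rfl⟩ := QuotientGroup.mk_surjective x₁
      obtain ⟨y, rfl⟩ := QuotientGroup.mk_surjective y₁
      have heC : kk x y ∉ S.C := fun h => hxy₁ (kk_eq_one.1 (by
        rw [← hkk]; exact (QuotientGroup.eq_one_iff _).2 h))
      have hFsq : ∀ f ∈ S.F1, f * f = 1 := by
        intro f hf
        by_cases hf1 : S.δ f = 1
        · exact S.expC f (S.δ_eq_one.1 hf1)
        obtain ⟨k, hk⟩ := S.trans _ (hkF x y) _ hf (fun e => heC (S.δ_eq_one.1 e)) hf1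
        have hδ : ∀ j : ℕ, S.δ ((S.ρ ^ j) (kk x y)) = (S.ρ ^ j) (S.δ (kk x y)) := fun j => by
          induction j with
          | zero => rfl
          | succ j ih => rw [pow_succ', MulAut.mul_apply, MulAut.mul_apply, S.δ_rho, ih]
        have he : (S.ρ ^ k) (kk x y) ∈ S.F1 := by rw [map_kk]; exact hkF _ _
        obtain ⟨c, hc, rfl⟩ := S.eq_of_δ he ((hδ k).trans hk).symm
        calc (S.ρ ^ k) (kk x y) * c * ((S.ρ ^ k) (kk x y) * c)
            = (S.ρ ^ k) (kk x y) * (S.ρ ^ k) (kk x y) * (c * c) := by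
              rw [mul_assoc, ← mul_assoc c, ← S.Cc hc]; group
          _ = 1 := by rw [S.expC c hc, ← map_mul, hk2, map_one, one_mul]
      exact hF1ne (S.eq_F1_of_abelian_F1 hFsq)
    · push Not at hM
      obtain ⟨x₀, f₀, hf₀, hx₀⟩ := hM
      -- displacement through two layers
      have hu : ∀ q : P ⧸ S.C, T.δ q ∈ T.F1 := fun q => by
        rw [mem_F1, δ, T.α_δ, ← mul_inv_rev]
        exact inv_mem (hTsq _)
      have hum : ∀ q q' : P ⧸ S.C, T.δ (T.δ (q * q')) = T.δ (T.δ q) * T.δ (T.δ q') := by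
        intro q q'
        have e2 : T.δ (q * q') = kk q'⁻¹ (T.δ q) * (T.δ q * T.δ q') := by
          simp only [kk, δ, map_mul]; group
        rw [e2, T.δ_mul (show T.δ (kk q'⁻¹ (T.δ q)) ∈ T.C from T.C_le_F1 (hTk _ _)),
          T.δ_eq_one.2 (hTk _ _), one_mul, T.δ_mul (hu q)]
      choose rep hrep using fun q : P ⧸ S.C => QuotientGroup.mk_surjective q
      let w : P → P := fun x => rep (T.δ (T.δ (x : P ⧸ S.C)))
      have hw : ∀ x, w x ∈ S.F1 := fun x => (hTC _).1 (by rw [hrep]; exact hu _)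
      let p : P → P := fun x => S.δ (w x)
      have hδc : ∀ x y : P, y ∈ S.F1 → (x : P ⧸ S.C) = y → S.δ x = S.δ y := fun x y hy h => by
        have hc := QuotientGroup.eq.1 h.symm
        rw [show x = y * (y⁻¹ * x) by group, S.δ_mul hy, S.δ_eq_one.2 hc, mul_one]
      have hpm : ∀ x ∈ (⊤ : Subgroup P), ∀ y ∈ (⊤ : Subgroup P), p (x * y) = p x * p y := fun x _ y _ => by
        show S.δ _ = S.δ _ * S.δ _
        rw [← S.δ_mul (hw x)]
        refine hδc _ _ (mul_mem (hw x) (hw y)) ?_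
        simp only [w, QuotientGroup.mk_mul, hrep, hum]
      have hpρ : ∀ x ∈ (⊤ : Subgroup P), p (S.ρ x) = S.ρ (p x) := fun x _ => by
        show S.δ _ = S.ρ (S.δ _)
        rw [← S.δ_rho]
        refine hδc _ _ (S.ρ_F1 (hw x)) ?_
        simp only [w, hrep, ← hTρ, T.δ_rho]
      have hp1 : ∀ x, p x = 1 ↔ (x : P ⧸ S.C) ∈ T.F1 := fun x => by
        show S.δ (w x) = 1 ↔ _
        rw [S.δ_eq_one, ← QuotientGroup.eq_one_iff, hrep, T.δ_eq_one]
        exact Iff.rfl
      have hpne : ∃ x, p x ≠ 1 := by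
        by_contra hcon
        push Not at hcon
        have hTF : T.F1 = ⊤ := (Subgroup.eq_top_iff' _).2 fun q => by
          obtain ⟨x, rfl⟩ := QuotientGroup.mk_surjective q
          exact (hp1 x).1 (hcon x)
        exact hxy₁ (kk_eq_one.1 (T.F1_comm hneT (hTF ▸ Subgroup.mem_top _) (hTF ▸ Subgroup.mem_top _)))
      have hps : ∀ c ∈ S.C, ∃ x ∈ (⊤ : Subgroup P), p x = c := by
        intro c hc
        obtain ⟨x, hx⟩ := hpne
        by_cases hc1 : c = 1
        · exact ⟨1, Subgroup.mem_top _, by rw [hc1, hp1]; exact one_mem T.F1⟩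
        obtain ⟨k, hk⟩ := S.trans _ (hw x) c hc hx hc1
        refine ⟨(S.ρ ^ k) x, Subgroup.mem_top _, ?_⟩
        rw [← hk]
        clear hk
        induction k with
        | zero => rfl
        | succ k ih => rw [pow_succ', MulAut.mul_apply, MulAut.mul_apply, hpρ _ (Subgroup.mem_top _), ih]
      have hkill : ∀ x : P, ∀ f ∈ S.F1, p x = 1 → kk x f = 1 := by
        intro x f hf h
        -- such an element is a displacement up to the first layer
        have hx : (x : P ⧸ S.C) ∈ T.F1 := (hp1 x).1 h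
        have hc0 : T.δ (x : P ⧸ S.C) ∈ T.C := hx
        obtain ⟨g₁, hg₁⟩ := QuotientGroup.mk_surjective (T.δ (x : P ⧸ S.C))
        have hg₁F : g₁ ∈ S.F1 := (hTC _).1 (hg₁ ▸ hc0)
        obtain ⟨v, -, hv⟩ := hps _ hg₁F
        have hv' : T.δ (T.δ (v : P ⧸ S.C)) = T.δ (x : P ⧸ S.C) := by
          obtain ⟨c, hc, e⟩ := S.eq_of_δ hg₁F hv
          rw [← hg₁, ← hrep (T.δ (T.δ (v : P ⧸ S.C)))]
          show ((w v : P) : P ⧸ S.C) = _
          rw [e, QuotientGroup.mk_mul, (QuotientGroup.eq_one_iff c).2 hc, mul_one]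
        obtain ⟨c, hc, e⟩ := T.eq_of_δ (hu _) hv'.symm
        obtain ⟨f', rfl⟩ := QuotientGroup.mk_surjective c
        have hf' : f' ∈ S.F1 := (hTC _).1 hc
        rw [δ, hTα, ← QuotientGroup.mk_inv, ← QuotientGroup.mk_mul, ← QuotientGroup.mk_mul, eq_comm,
          QuotientGroup.eq] at e
        set u := v⁻¹ * S.α v with hudef
        have hu1 : kk u f = 1 := by
          have h1 : kk (S.α v) f = kk v f := by
            obtain ⟨c, hc, e⟩ : ∃ c ∈ S.C, S.α f = f * c := ⟨S.δ f, hf, by rw [δ]; group⟩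
            have h2 : kk (S.α v) (S.α f) = kk v f := by
              rw [← map_kk]; exact (S.fix _).2 (hkC v f hf)
            rwa [e, kk_mul_right fun g => by rw [S.kk_mem_right hc, mul_one, one_mul], S.kk_mem_right hc,
              mul_one] at h2
          have h3 := kk_mul_left (a := v) (b := u) (c := f) fun g => S.Cc (hkC u f hf) g
          rw [show v * u = S.α v by rw [hudef]; group, h1] at h3
          exact left_eq_mul.1 h3
        rw [show x = u * f' * ((u * f')⁻¹ * x) by group,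
          kk_mul_left fun g => by rw [S.kk_mem_left e f, mul_one, one_mul], S.kk_mem_left e f, mul_one,
          kk_mul_left fun g => S.Cc (hkC f' f hf) g, hu1, S.F1_comm hne hf' hf, one_mul]
      have hdeg := ((S.pairing_lift ⊤ S.F1 p S.δ kk (fun _ _ => Subgroup.mem_top _) (fun _ h => S.ρ_F1 h)
        (fun x _ => hw x) (fun _ h => h) hpm hps hpρ
        (fun a ha a' _ => S.δ_mul ha) (S.δ_surj hne) (fun a _ => S.δ_rho a)
        (fun a _ x hx => hkC a x hx) (fun a _ a' _ x hx => kk_mul_left fun g => S.Cc (hkC a' x hx) g)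
        (fun a _ x hx x' hx' => kk_mul_right fun g => S.Cc (hkC a x' hx') g)
        (fun a _ x _ => (map_kk S.ρ a x).symm)
        (fun a _ x hx h => hkill a x hx h)
        (fun a _ x _ h => S.kk_mem_right (S.δ_eq_one.1 h) a)).1).resolve_left
          fun h => hx₀ (h x₀ (Subgroup.mem_top _) f₀ hf₀)
      have hout : ∀ x : P, p x ≠ 1 → (x : P ⧸ S.C) * (x : P ⧸ S.C) = 1 := by
        intro x hx
        rw [← QuotientGroup.mk_mul, QuotientGroup.eq_one_iff, ← S.δ_eq_one]
        refine (hdeg x (Subgroup.mem_top _) _ (hsqF x) ?_).resolve_left hx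
        rw [kk_eq_one, mul_assoc]
      have hall : ∀ q : P ⧸ S.C, q * q = 1 := by
        intro q
        obtain ⟨m, rfl⟩ := QuotientGroup.mk_surjective q
        by_cases hm : p m = 1
        swap
        · exact hout m hm
        obtain ⟨x, hx⟩ := hpne
        obtain ⟨c, hc, hc1, hcx⟩ : ∃ c ∈ S.C, c ≠ 1 ∧ c ≠ p x := by
          by_contra hcon
          push Not at hcon
          haveI : Fintype S.C := Fintype.ofFinite _
          have hsub : (Finset.univ : Finset S.C) ⊆ {1, ⟨p x, hw x⟩} := fun c _ => by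
            by_cases h1 : (c : P) = 1
            · simp [Subtype.ext_iff, h1]
            · simp [Subtype.ext_iff, hcon c c.2 h1]
          have h4 := (Finset.card_le_card hsub).trans Finset.card_le_two
          rw [Finset.card_univ, ← Nat.card_eq_fintype_card, S.cardC] at h4
          have : 2 ^ 2 ≤ 2 ^ n := Nat.pow_le_pow_right two_pos S.two_le
          omega
        obtain ⟨y, -, hy⟩ := hps c hc
        have hxy : p (x * y) ≠ 1 := by
          rw [hpm x (Subgroup.mem_top _) y (Subgroup.mem_top _), hy]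
          intro h
          exact hcx ((eq_inv_of_mul_eq_one_right h).trans (inv_eq_of_mul_eq_one_right (S.expC _ (hw x))))
        have hinv : ∀ z : P, p z ≠ 1 → (z : P ⧸ S.C) * m * (z : P ⧸ S.C) = (m : P ⧸ S.C)⁻¹ := by
          intro z hz
          have h1 := hout (z * m) (by
            rw [hpm z (Subgroup.mem_top _) m (Subgroup.mem_top _), hm, mul_one]; exact hz)
          rw [QuotientGroup.mk_mul, ← mul_assoc] at h1
          exact eq_inv_of_mul_eq_one_left h1
        have h1 := hinv _ hxy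
        have h2 := hinv x hx
        have h3 := hinv y (hy ▸ hc1)
        set X := (x : P ⧸ S.C) with hX
        set Y := (y : P ⧸ S.C) with hY
        set M := (m : P ⧸ S.C) with hMdef
        rw [QuotientGroup.mk_mul] at h1
        have hXX : X * X = 1 := hout x hx
        have hYY : Y * Y = 1 := hout y (hy ▸ hc1)
        have hXY : X * Y * (X * Y) = 1 := hout (x * y) hxy
        have hXY' : X * Y = Y * X := by
          rw [eq_inv_of_mul_eq_one_left hXY, mul_inv_rev, inv_eq_of_mul_eq_one_right hXX,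
            inv_eq_of_mul_eq_one_right hYY]
        have h4 : X * Y * M * (X * Y) = M := by
          calc X * Y * M * (X * Y) = X * Y * M * (Y * X) := by rw [hXY']
            _ = X * (Y * M * Y) * X := by group
            _ = X * M⁻¹ * X := by rw [h3]
            _ = (X⁻¹ * M * X⁻¹)⁻¹ := by group
            _ = (X * M * X)⁻¹ := by rw [inv_eq_of_mul_eq_one_right hXX]
            _ = M := by rw [h2, inv_inv]
        exact mul_eq_one_iff_eq_inv.2 (h4.symm.trans h1)
      exact hxy₁ (by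
        rw [← inv_eq_of_mul_eq_one_right (hall (x₁ * y₁)), mul_inv_rev,
          inv_eq_of_mul_eq_one_right (hall x₁), inv_eq_of_mul_eq_one_right (hall y₁)])

end Setup

end Cfsg.Agent.SingerFixed
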