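import Mathlib
import Cfsg.Agent.Lib.RankTwoInvol.Singer.Structure
import Cfsg.Agent.Lib.Involutions.Suzuki.SquareExtension

/-!
The group as a central extension whose squaring map is a binary quadratic form.
-/

set_option autoImplicit false
set_option linter.all false

namespace Cfsg.Agent.SingerFixed

open Cfsg.Agent.Involutions.Suzuki.SquareExtension (Ext)

/-- The quadratic form with coefficients `A, a, B`. -/
def form {F : Type*} [Field F] (A a B : F) (u : F × F) : F := A * (u.1 * u.1) + a * (u.1 * u.2) + B * (u.2 * u.2)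

/-- Changing the coordinates of the quotient. -/
def reparam {P W W' Z : Type*} [Group P] [AddCommGroup W] [AddCommGroup W'] [AddCommGroup Z] {q : W → Z}
    (E : Ext P q) (L : W ≃+ W') (q' : W' → Z) (h : ∀ u, q' (L u) = q u) : Ext P q' where
  proj x := L (E.proj x)
  incl := E.incl
  proj_mul x y := by rw [E.proj_mul, map_add]
  proj_surj := L.surjective.comp E.proj_surj
  incl_add := E.incl_add
  incl_inj := E.incl_inj
  proj_eq_zero x := by rw [map_eq_zero_iff L L.injective, E.proj_eq_zero]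
  central := E.central
  sq x := by rw [h, E.sq]

/-- Rescaling the centre. -/
def rescale {P W F : Type*} [Group P] [AddCommGroup W] [Field F] {q : W → F} (E : Ext P q) {c : F}
    (hc : c ≠ 0) (q' : W → F) (h : ∀ u, c * q' u = q u) : Ext P q' where
  proj := E.proj
  incl z := E.incl (c * z)
  proj_mul := E.proj_mul
  proj_surj := E.proj_surj
  incl_add a b := by rw [mul_add, E.incl_add]
  incl_inj a b hab := mul_left_cancel₀ hc (E.incl_inj hab)
  proj_eq_zero x := (E.proj_eq_zero x).trans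
    ⟨fun ⟨z, hz⟩ => ⟨z / c, by rw [mul_div_cancel₀ z hc]; exact hz⟩, fun ⟨z, hz⟩ => ⟨c * z, hz⟩⟩
  central a x := E.central _ x
  sq x := by rw [h, E.sq]

namespace Setup

variable {P : Type*} [Group P] [Finite P] {n : ℕ} (S : Setup P n)

include S

theorem sum_shift {F : Type*} [AddCommGroup F] (g : ℕ → F) (d : ℕ) (h : g d = g 0) :
    ∑ k ∈ Finset.range d, g (k + 1) = ∑ k ∈ Finset.range d, g k := by
  have h1 := Finset.sum_range_succ g d
  rw [Finset.sum_range_succ' g d, h] at h1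
  exact add_right_cancel h1

theorem exists_ext (hsq : ∀ x : P, x * x ∈ S.C) (hk : ∀ a b : P, kk a b ∈ S.C)
    (hcard : Nat.card P = (2 ^ n) ^ 3) (hna : ∃ a b : P, a * b ≠ b * a) :
    ∃ (F : Type) (_ : Field F) (_ : Fintype F) (A a B : F),
      Fintype.card F = 2 ^ n ∧ (2 : F) = 0 ∧ a ≠ 0 ∧ Nonempty (Ext P (form A a B)) := by
  classical
  haveI := S.Cnormal
  obtain ⟨F, _, _, e, ω, hF, h2, hbij, hadd, hscal, hgen⟩ := S.exists_field
  have hq1 : 1 < 2 ^ n := Nat.one_lt_two_pow (by have := S.two_le; omega)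
  obtain ⟨a₀, b₀, hab₀⟩ := hna
  have hne : ∃ x, x ∉ S.C := ⟨a₀, fun h => hab₀ (S.Cc h b₀).symm⟩
  -- the field
  have he1 : e 1 = 0 := by
    have h := hadd 1 (one_mem _) 1 (one_mem _)
    rw [one_mul] at h
    exact left_eq_add.1 h
  have hex : ∀ z : F, ∃ x ∈ S.C, e x = z := fun z => hbij.surjOn (Set.mem_univ z)
  choose g hgC hg using hex
  have hge : ∀ x ∈ S.C, g (e x) = x := fun x hx => hbij.injOn (hgC _) hx (hg _)
  have hez : ∀ x ∈ S.C, e x = 0 → x = 1 := fun x hx h => hbij.injOn hx (one_mem _) (h.trans he1.symm)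
  have hω0 : ω ≠ 0 := by
    obtain ⟨c, hc, hc1⟩ := S.exists_ne
    intro h
    have h' := hscal c hc
    rw [h, zero_mul] at h'
    exact hc1 (S.ρ.map_eq_one_iff.1 (hez _ (S.rhoC hc) h'))
  have hρk : ∀ (k : ℕ), ∀ c ∈ S.C, e ((S.ρ ^ k) c) = ω ^ k * e c := by
    intro k c hc
    induction k with
    | zero => simp
    | succ k ih =>
      rw [pow_succ', MulAut.mul_apply, hscal _ (S.invC k hc), ih, pow_succ', mul_assoc]
  set d := 2 ^ n - 1 with hd
  have hωd : ω ^ d = 1 := by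
    obtain ⟨c, hc, hc1⟩ := S.exists_ne
    have h := hρk d c hc
    rw [S.period] at h
    have hne' : e c ≠ 0 := fun h' => hc1 (hez c hc h')
    exact mul_right_cancel₀ hne' (h.symm.trans (one_mul _).symm)
  have hdF : (d : F) = 1 := by
    have h : ((d + 1 : ℕ) : F) = 0 := by
      rw [show d + 1 = 2 ^ n by omega, Nat.cast_pow, Nat.cast_ofNat, h2, zero_pow (by have := S.two_le; omega)]
    push_cast at h
    linear_combination h - h2
  -- displacements
  have hu : ∀ x : P, S.δ x ∈ S.F1 := fun x => by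
    rw [mem_F1, δ, S.α_δ, ← mul_inv_rev]
    exact inv_mem (hsq _)
  have hum : ∀ x y : P, S.δ (S.δ (x * y)) = S.δ (S.δ x) * S.δ (S.δ y) := by
    intro x y
    have e2 : S.δ (x * y) = kk y⁻¹ (S.δ x) * (S.δ x * S.δ y) := by
      simp only [kk, δ, map_mul]; group
    rw [e2, S.δ_mul (show S.δ (kk y⁻¹ (S.δ x)) ∈ S.C from S.C_le_F1 (hk _ _)),
      S.δ_eq_one.2 (hk _ _), one_mul, S.δ_mul (hu x)]
  let π : P → F := fun x => e (S.δ (S.δ x))
  have hπadd : ∀ x y, π (x * y) = π x + π y := fun x y => by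
    show e _ = _
    rw [hum, hadd _ (hu x) _ (hu y)]
  have hπρ : ∀ x, π (S.ρ x) = ω * π x := fun x => by
    show e _ = _
    rw [S.δ_rho, S.δ_rho, hscal _ (hu x)]
  have hπ0 : ∀ x, π x = 0 ↔ x ∈ S.F1 := fun x => by
    refine ⟨fun h => S.δ_eq_one.1 (hez _ (hu x) h), fun h => ?_⟩
    show e _ = 0
    rw [S.δ_eq_one.2 (show S.δ x ∈ S.C from h), he1]
  -- a second coordinate
  let U := Additive (P ⧸ S.C)
  letI : CommGroup (P ⧸ S.C) := { (inferInstance : Group (P ⧸ S.C)) with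
    mul_comm := fun a b => by
      obtain ⟨a, rfl⟩ := QuotientGroup.mk_surjective a
      obtain ⟨b, rfl⟩ := QuotientGroup.mk_surjective b
      refine kk_eq_one.1 ?_
      show kk (QuotientGroup.mk' S.C a) (QuotientGroup.mk' S.C b) = 1
      rw [← map_kk (QuotientGroup.mk' S.C)]
      exact (QuotientGroup.eq_one_iff _).2 (hk a b) }
  letI : Module (ZMod 2) U := AddCommGroup.zmodModule (n := 2) fun u => by
    obtain ⟨x, hx⟩ := QuotientGroup.mk_surjective (Additive.toMul u)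
    refine Additive.toMul.injective ?_
    rw [toMul_nsmul, ← hx, ← QuotientGroup.mk_pow, toMul_zero, QuotientGroup.eq_one_iff, pow_two]
    exact hsq x
  letI : Module (ZMod 2) F := AddCommGroup.zmodModule (n := 2) fun u => by
    rw [nsmul_eq_mul, Nat.cast_ofNat, h2, zero_mul]
  let W : Submodule (ZMod 2) U :=
    AddSubgroup.toZModSubmodule 2 (Subgroup.toAddSubgroup (S.F1.map (QuotientGroup.mk' S.C)))
  have hWrep : ∀ w : W, ∃ f ∈ S.F1, Additive.ofMul (f : P ⧸ S.C) = (w : U) := fun w => by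
    obtain ⟨f, hf, hfw⟩ := w.2
    exact ⟨f, hf, congrArg Additive.ofMul hfw⟩
  choose rep hrepF hrep using hWrep
  have hδwd : ∀ x y : P, y ∈ S.F1 → (x : P ⧸ S.C) = y → S.δ x = S.δ y := fun x y hy h => by
    have hc := QuotientGroup.eq.1 h.symm
    rw [show x = y * (y⁻¹ * x) by group, S.δ_mul hy, S.δ_eq_one.2 hc, mul_one]
  let f₀ : W →+ F := AddMonoidHom.mk' (fun w => e (S.δ (rep w))) fun w w' => by
    rw [← hadd _ (hrepF w) _ (hrepF w'), ← S.δ_mul (hrepF w)]
    refine congrArg e (hδwd _ _ (mul_mem (hrepF w) (hrepF w')) ?_)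
    apply Additive.ofMul.injective
    rw [QuotientGroup.mk_mul, ofMul_mul, hrep, hrep, hrep]
    rfl
  obtain ⟨σ₀, hσ₀⟩ := LinearMap.exists_extend (f₀.toZModLinearMap 2)
  have hσ₀F : ∀ f ∈ S.F1, σ₀ (Additive.ofMul (f : P ⧸ S.C)) = e (S.δ f) := by
    intro f hf
    let w : W := ⟨Additive.ofMul (f : P ⧸ S.C), ⟨f, hf, rfl⟩⟩
    have h : σ₀ (w : U) = e (S.δ (rep w)) := LinearMap.congr_fun hσ₀ w
    exact h.trans (congrArg e (hδwd _ _ hf (Additive.ofMul.injective (hrep w))))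
  let σ : P → F := fun x => ∑ k ∈ Finset.range d, (ω ^ k)⁻¹ * σ₀ (Additive.ofMul (((S.ρ ^ k) x : P) : P ⧸ S.C))
  have hσadd : ∀ x y, σ (x * y) = σ x + σ y := fun x y => by
    show ∑ k ∈ _, _ = _
    rw [← Finset.sum_add_distrib]
    refine Finset.sum_congr rfl fun k _ => ?_
    rw [map_mul, QuotientGroup.mk_mul, ofMul_mul, map_add, mul_add]
  have hσρ : ∀ x, σ (S.ρ x) = ω * σ x := fun x => by
    let G : ℕ → F := fun k => (ω ^ k)⁻¹ * σ₀ (Additive.ofMul (((S.ρ ^ k) x : P) : P ⧸ S.C))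
    have hG : G d = G 0 := by
      show (ω ^ d)⁻¹ * _ = (ω ^ 0)⁻¹ * _
      rw [hωd, S.period, pow_zero, pow_zero]
    show ∑ k ∈ _, _ = ω * ∑ k ∈ _, G k
    rw [← S.sum_shift G d hG, Finset.mul_sum]
    refine Finset.sum_congr rfl fun k _ => ?_
    show _ = ω * ((ω ^ (k + 1))⁻¹ * _)
    rw [pow_succ S.ρ k, MulAut.mul_apply, pow_succ' ω k, mul_inv, ← mul_assoc, ← mul_assoc,
      mul_inv_cancel₀ hω0, one_mul]
  have hσF : ∀ f ∈ S.F1, σ f = e (S.δ f) := by
    intro f hf
    have hp : ∀ k : ℕ, (S.ρ ^ k) f ∈ S.F1 ∧ S.δ ((S.ρ ^ k) f) = (S.ρ ^ k) (S.δ f) := fun k => by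
      induction k with
      | zero => exact ⟨hf, rfl⟩
      | succ k ih =>
        rw [pow_succ', MulAut.mul_apply, MulAut.mul_apply, S.δ_rho, ih.2]
        exact ⟨S.ρ_F1 ih.1, rfl⟩
    show ∑ k ∈ _, _ = _
    rw [Finset.sum_congr rfl fun k _ => show _ = e (S.δ f) by
      rw [hσ₀F _ (hp k).1, (hp k).2, hρk k _ hf, ← mul_assoc, inv_mul_cancel₀ (pow_ne_zero k hω0), one_mul]]
    rw [Finset.sum_const, Finset.card_range, nsmul_eq_mul, hdF, one_mul]
  let φ : P → F × F := fun x => (σ x, π x)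
  have hφadd : ∀ x y, φ (x * y) = φ x + φ y := fun x y => Prod.ext (hσadd x y) (hπadd x y)
  have hφ0 : ∀ x, φ x = 0 ↔ x ∈ S.C := fun x => by
    constructor
    · intro h
      have hx := (hπ0 x).1 (congrArg Prod.snd h)
      exact S.δ_eq_one.1 (hez _ hx ((hσF x hx).symm.trans (congrArg Prod.fst h)))
    · intro h
      refine Prod.ext ?_ ((hπ0 x).2 (S.C_le_F1 h))
      show σ x = 0
      rw [hσF x (S.C_le_F1 h), S.δ_eq_one.2 h, he1]
  let Φ : P →* Multiplicative (F × F) :=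
    MonoidHom.mk' (fun x => Multiplicative.ofAdd (φ x)) fun x y => by rw [hφadd]; rfl
  have hker : Φ.ker = S.C := by
    ext x
    rw [MonoidHom.mem_ker]
    exact hφ0 x
  have hrange : Φ.range = ⊤ := by
    refine Subgroup.eq_top_of_card_eq _ ?_
    have h := Φ.ker.card_mul_index
    rw [Subgroup.index_ker, hker, S.cardC, hcard] at h
    rw [Nat.card_congr Multiplicative.toAdd, Nat.card_prod, Nat.card_eq_fintype_card (α := F), hF]
    exact Nat.eq_of_mul_eq_mul_left (by positivity : 0 < 2 ^ n) (h.trans (by ring))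
  have hφs : ∀ u : F × F, ∃ x, φ x = u := fun u => by
    obtain ⟨x, hx⟩ : Multiplicative.ofAdd u ∈ Φ.range := hrange ▸ Subgroup.mem_top _
    exact ⟨x, hx⟩
  choose s hs using hφs
  have hφρ : ∀ x, φ (S.ρ x) = (ω * σ x, ω * π x) := fun x => Prod.ext (hσρ x) (hπρ x)
  have hwd : ∀ x y, φ x = φ y → ∃ c ∈ S.C, x = y * c := fun x y h => by
    refine ⟨y⁻¹ * x, (hφ0 _).1 ?_, by group⟩
    have h1 := hφadd y (y⁻¹ * x)
    rw [mul_inv_cancel_left, h] at h1
    exact left_eq_add.1 h1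
  -- the squaring map
  let Q : F × F → F := fun u => e (s u * s u)
  have hQ : ∀ x, Q (φ x) = e (x * x) := fun x => by
    obtain ⟨c, hc, h⟩ := hwd (s (φ x)) x (hs _)
    show e _ = _
    rw [h, show x * c * (x * c) = x * x * (c * c) by rw [mul_assoc, ← mul_assoc c, ← S.Cc hc]; group,
      S.expC c hc, mul_one]
  let B : F × F → F × F → F := fun u v => e (kk (s u) (s v))
  have hB : ∀ x y, B (φ x) (φ y) = e (kk x y) := fun x y => by
    obtain ⟨c, hc, h⟩ := hwd (s (φ x)) x (hs _)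
    obtain ⟨c', hc', h'⟩ := hwd (s (φ y)) y (hs _)
    show e _ = _
    rw [h, h', kk_mul_left fun g => S.Cc (hk c _) g, S.kk_mem_left hc, mul_one,
      kk_mul_right fun g => S.Cc (hk x c') g, S.kk_mem_right hc', mul_one]
  have hQadd : ∀ u v, Q (u + v) = Q u + Q v + B v u := fun u v => by
    obtain ⟨x, rfl⟩ : ∃ x, φ x = u := ⟨_, hs u⟩
    obtain ⟨y, rfl⟩ : ∃ y, φ y = v := ⟨_, hs v⟩
    rw [← hφadd, hQ, hQ, hQ, hB, ← hadd _ (hsq x) _ (hsq y), ← hadd _ (mul_mem (hsq x) (hsq y)) _ (hk y x)]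
    congr 1
    calc x * y * (x * y) = x * (kk y x * (x * y)) * y := by simp [kk, mul_assoc]
      _ = kk y x * x * (x * y) * y := by rw [← mul_assoc x (kk y x), S.Cc (hk y x) x]
      _ = kk y x * (x * x * (y * y)) := by group
      _ = _ := (S.Cc (hk y x) _).symm
  have hQω : ∀ x y, Q (ω * x, ω * y) = ω * Q (x, y) := fun x y => by
    obtain ⟨z, hz⟩ : ∃ z, φ z = (x, y) := ⟨_, hs _⟩
    rw [← hz, hQ, ← hscal _ (hsq z), map_mul, ← hQ]
    rw [hφρ, show σ z = x from congrArg Prod.fst hz, show π z = y from congrArg Prod.snd hz]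
  have hQ0 : Q (0, 0) = 0 := by
    have h := hQ 1
    rwa [(hφ0 1).2 (one_mem _), one_mul, he1] at h
  have hQl : ∀ l x y, Q (l * x, l * y) = l * Q (x, y) := by
    intro l x y
    by_cases hl : l = 0
    · subst hl; simp [hQ0]
    obtain ⟨k, rfl⟩ := hgen l hl
    clear hl
    induction k with
    | zero => simp
    | succ k ih => rw [pow_succ', mul_assoc, mul_assoc, hQω, ih, mul_assoc]
  let B' : F → F → F := fun y x => B (0, y) (x, 0)
  have hB' : ∀ y x, B' y x = Q ((x, 0) + (0, y)) + Q (x, 0) + Q (0, y) := fun y x => by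
    show B (0, y) (x, 0) = _
    linear_combination -(hQadd (x, 0) (0, y)) - (Q (x, 0) + Q (0, y)) * h2
  have hBadd : ∀ u u' v, B (u + u') v = B u v + B u' v := fun u u' v => by
    obtain ⟨x, rfl⟩ : ∃ x, φ x = u := ⟨_, hs u⟩
    obtain ⟨x', rfl⟩ : ∃ x, φ x = u' := ⟨_, hs u'⟩
    obtain ⟨y, rfl⟩ : ∃ y, φ y = v := ⟨_, hs v⟩
    rw [← hφadd, hB, hB, hB, kk_mul_left fun g => S.Cc (hk x' y) g, hadd _ (hk x y) _ (hk x' y)]
  have hBadd' : ∀ u v v', B u (v + v') = B u v + B u v' := fun u v v' => by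
    obtain ⟨x, rfl⟩ : ∃ x, φ x = u := ⟨_, hs u⟩
    obtain ⟨y, rfl⟩ : ∃ y, φ y = v := ⟨_, hs v⟩
    obtain ⟨y', rfl⟩ : ∃ y, φ y = v' := ⟨_, hs v'⟩
    rw [← hφadd, hB, hB, hB, kk_mul_right fun g => S.Cc (hk x y') g, hadd _ (hk x y) _ (hk x y')]
  obtain ⟨a, ha⟩ := biadditive_sq h2 B'
    (fun y y' x => by show B _ _ = _; rw [← hBadd, Prod.mk_add_mk, add_zero])
    (fun y x x' => by show B _ _ = _; rw [← hBadd', Prod.mk_add_mk, add_zero])
    (fun l y x => by
      rw [hB', hB', Prod.mk_add_mk, Prod.mk_add_mk, zero_add, zero_add, add_zero, add_zero, hQl,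
        show Q (l * x, 0) = l * Q (x, 0) by rw [← hQl, mul_zero],
        show Q (0, l * y) = l * Q (0, y) by rw [← hQl, mul_zero]]
      ring)
  set A := Q (1, 0) * Q (1, 0) with hA
  set B0 := Q (0, 1) * Q (0, 1) with hB0
  have hT : ∀ u : F × F, Q u * Q u = form A a B0 u := by
    rintro ⟨x, y⟩
    have h1 : Q (x, 0) = x * Q (1, 0) := by rw [← hQl, mul_one, mul_zero]
    have h3 : Q (0, y) = y * Q (0, 1) := by rw [← hQl, mul_one, mul_zero]
    have h4 : Q (x, y) = Q (x, 0) + Q (0, y) + B' y x := by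
      have h := hQadd (x, 0) (0, y)
      rwa [Prod.mk_add_mk, add_zero, zero_add] at h
    rw [h4, h1, h3, form, hA, hB0]
    linear_combination ha y x + (x * Q (1, 0) * (y * Q (0, 1)) + x * Q (1, 0) * B' y x + y * Q (0, 1) * B' y x) * h2
  have hinj : ∀ u v : F, u * u = v * v → u = v := fun u v h => by
    have h' : (u - v) * (u - v) = 0 := by linear_combination h + (v * v - u * v) * h2
    exact sub_eq_zero.1 (mul_self_eq_zero.1 h')
  have ha0 : a ≠ 0 := by
    intro h
    apply hab₀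
    have hQlin : ∀ u v : F × F, Q (u + v) = Q u + Q v := fun u v => hinj _ _ (by
      have e1 := hT (u + v)
      have e2 := hT u
      have e3 := hT v
      simp only [form, h, Prod.fst_add, Prod.snd_add] at e1 e2 e3
      linear_combination e1 - e2 - e3 + (A * (u.1 * v.1) + B0 * (u.2 * v.2) - Q u * Q v) * h2)
    have h0 : B (φ a₀) (φ b₀) = 0 := by
      linear_combination -(hQadd (φ b₀) (φ a₀)) + hQlin (φ b₀) (φ a₀)
    rw [hB] at h0
    exact kk_eq_one.1 (hez _ (hk _ _) h0)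
  have hsurj : Function.Surjective fun t : F => t * t := Finite.surjective_of_injective hinj
  choose r hr using hsurj
  have hrr : ∀ t : F, r t * r t = t := hr
  refine ⟨F, inferInstance, inferInstance, A, a, B0, hF, h2, ha0, ⟨
    { proj := φ
      incl := fun z => g (r z)
      proj_mul := hφadd
      proj_surj := fun u => ⟨s u, hs u⟩
      incl_add := fun z z' => hbij.injOn (hgC _) (mul_mem (hgC _) (hgC _)) (by
        rw [hadd _ (hgC _) _ (hgC _), hg, hg, hg]
        exact hinj _ _ (by linear_combination hrr (z + z') - hrr z - hrr z' - (r z * r z') * h2))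
      incl_inj := fun z z' h => by
        have h' := congrArg e h
        rw [hg, hg] at h'
        rw [← hrr z, h', hrr]
      proj_eq_zero := fun x => (hφ0 x).trans ⟨fun h => ⟨e x * e x, by
          rw [hinj _ _ (hrr (e x * e x)), hge x h]⟩, fun ⟨z, hz⟩ => hz ▸ hgC _⟩
      central := fun z x => S.Cc (hgC _) x
      sq := fun x => by
        rw [← hT, hinj _ _ (hrr (Q (φ x) * Q (φ x))), hQ, hge _ (hsq x)] }⟩⟩

end Setup

end Cfsg.Agent.SingerFixed
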