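import Mathlib
import Cfsg.Agent.Lib.RankTwoInvol.Singer.Forms
import Cfsg.Agent.Lib.Involutions.SylowPSUThree
import Cfsg.Agent.Lib.Classical.Linear

/-!
The two models of central extensions by binary quadratic forms.
-/

set_option autoImplicit false
set_option linter.all false

namespace Cfsg.Agent.SingerFixed

open Cfsg.Agent.Involutions.Suzuki.SquareExtension (Ext nonempty_mulEquiv)

variable {P : Type*} [Group P] [Finite P] {F : Type} [Field F] [Fintype F] {n : ℕ}

/-- An isotropic form can be taken to be the product of the coordinates. -/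
theorem ext_mul (h2 : (2 : F) = 0) {A a B : F} (ha : a ≠ 0) (E : Ext P (form A a B))
    (h : ∃ x y : F, (x ≠ 0 ∨ y ≠ 0) ∧ form A a B (x, y) = 0) :
    Nonempty (Ext P (fun u : F × F => u.1 * u.2)) := by
  obtain ⟨x₀, y₀, hne, h0⟩ := h
  simp only [form] at h0
  obtain ⟨p, r, t, w, hdet, hid⟩ : ∃ p r t w : F, p * w + r * t = a ∧
      ∀ x y, (p * x + r * y) * (t * x + w * y) = form A a B (x, y) := by
    by_cases hx : x₀ = 0
    · subst hx
      have hy : y₀ * y₀ ≠ 0 := mul_ne_zero (hne.resolve_left (fun h => h rfl)) (hne.resolve_left (fun h => h rfl))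
      have hB : B = 0 := by
        have h1 : B * (y₀ * y₀) = 0 := by linear_combination h0
        exact (mul_eq_zero.1 h1).resolve_right hy
      exact ⟨1, 0, A, a, by ring, fun x y => by simp only [form, hB]; ring⟩
    · set m := y₀ / x₀ with hm
      have hy₀ : y₀ = m * x₀ := by rw [hm, div_mul_cancel₀ _ hx]
      have hroot : A + a * m + B * (m * m) = 0 := by
        have h1 : (A + a * m + B * (m * m)) * (x₀ * x₀) = 0 := by rw [hy₀] at h0; linear_combination h0
        exact (mul_eq_zero.1 h1).resolve_right (mul_ne_zero hx hx)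
      refine ⟨m, 1, a + B * m, B, ?_, fun x y => ?_⟩
      · linear_combination m * B * h2
      · simp only [form]
        linear_combination -(x * x) * hroot + (x * x * (a * m + B * (m * m)) + B * m * x * y) * h2
  let L : F × F →+ F × F := AddMonoidHom.mk' (fun u => (p * u.1 + r * u.2, t * u.1 + w * u.2))
    fun u v => Prod.ext (by simp only [Prod.fst_add, Prod.snd_add]; ring)
      (by simp only [Prod.fst_add, Prod.snd_add]; ring)
  have hL : Function.Injective L := by
    rw [injective_iff_map_eq_zero]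
    intro u hu
    have h1 : p * u.1 + r * u.2 = 0 := congrArg Prod.fst hu
    have h3 : t * u.1 + w * u.2 = 0 := congrArg Prod.snd hu
    have e1 : a * u.1 = 0 := by
      rw [← hdet]
      linear_combination w * h1 + r * h3 - r * w * u.2 * h2
    have e2 : a * u.2 = 0 := by
      rw [← hdet]
      linear_combination t * h1 + p * h3 - p * t * u.1 * h2
    exact Prod.ext ((mul_eq_zero.1 e1).resolve_left ha) ((mul_eq_zero.1 e2).resolve_left ha)
  exact ⟨reparam E (AddEquiv.ofBijective L (Finite.injective_iff_bijective.1 hL)) _ fun u => hid u.1 u.2⟩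

/-- The product form gives a Sylow 2-subgroup of `PSL₃`. -/
theorem sylow_PSL (hF : Fintype.card F = 2 ^ n) (hn : n ≠ 0) (h2 : (2 : F) = 0)
    (E : Ext P (fun u : F × F => u.1 * u.2)) :
    ∃ S : Sylow 2 (Matrix.ProjectiveSpecialLinearGroup (Fin 3) F),
      Nonempty (P ≃* ↥(S : Subgroup (Matrix.ProjectiveSpecialLinearGroup (Fin 3) F))) := by
  classical
  haveI : Fact (Nat.Prime 2) := ⟨Nat.prime_two⟩
  have hneg : ∀ z : F, -z = z := fun z => by linear_combination -z * h2
  let M : F × F × F → Matrix.SpecialLinearGroup (Fin 3) F := fun p =>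
    ⟨!![1, p.1, p.2.2; 0, 1, p.2.1; 0, 0, 1], by rw [Matrix.det_fin_three]; simp⟩
  have hMmul : ∀ p p' : F × F × F,
      M p * M p' = M (p.1 + p'.1, p.2.1 + p'.2.1, p.2.2 + p'.2.2 + p.1 * p'.2.1) := by
    intro p p'
    refine Subtype.ext ?_
    rw [Matrix.SpecialLinearGroup.coe_mul]
    ext i j
    fin_cases i <;> fin_cases j <;> simp [M, Matrix.mul_apply, Fin.sum_univ_three] <;> ring
  have hM0 : M (0, 0, 0) = 1 := by
    refine Subtype.ext ?_
    ext i j
    fin_cases i <;> fin_cases j <;> simp [M]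
  have hMinj : Function.Injective M := by
    intro p p' h
    have h' := congrArg Subtype.val h
    exact Prod.ext (congrFun (congrFun h' 0) 1) (Prod.ext (congrFun (congrFun h' 1) 2) (congrFun (congrFun h' 0) 2))
  let U : Subgroup (Matrix.SpecialLinearGroup (Fin 3) F) :=
    { carrier := Set.range M
      one_mem' := ⟨(0, 0, 0), hM0⟩
      mul_mem' := by rintro _ _ ⟨p, rfl⟩ ⟨p', rfl⟩; exact ⟨_, (hMmul p p').symm⟩
      inv_mem' := by
        rintro _ ⟨p, rfl⟩
        refine ⟨(p.1, p.2.1, p.2.2 + p.1 * p.2.1), eq_inv_of_mul_eq_one_left ?_⟩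
        rw [hMmul, ← hM0]
        refine congrArg M (Prod.ext ?_ (Prod.ext ?_ ?_))
        · linear_combination p.1 * h2
        · linear_combination p.2.1 * h2
        · linear_combination (p.2.2 + p.1 * p.2.1) * h2 }
  let c : U → F × F × F := fun u => Classical.choose u.2
  have hc : ∀ u : U, M (c u) = u := fun u => Classical.choose_spec u.2
  have hcM : ∀ p, c ⟨M p, p, rfl⟩ = p := fun p => hMinj (hc _)
  let E' : Ext U (fun u : F × F => u.1 * u.2) :=
    { proj := fun u => ((c u).1, (c u).2.1)
      incl := fun z => ⟨M (0, 0, z), _, rfl⟩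
      proj_mul := fun u v => by
        have h : c (u * v) = ((c u).1 + (c v).1, (c u).2.1 + (c v).2.1, (c u).2.2 + (c v).2.2 + (c u).1 * (c v).2.1) :=
          hMinj (by rw [← hMmul, hc, hc, hc]; rfl)
        simp [h]
      proj_surj := fun u => ⟨⟨M (u.1, u.2, 0), _, rfl⟩, by simp [hcM]⟩
      incl_add := fun z z' => Subtype.ext (by
        show M _ = M _ * M _
        rw [hMmul]; simp)
      incl_inj := fun z z' h => by
        have h' := hMinj (congrArg Subtype.val h)
        simpa using h'
      proj_eq_zero := fun u => by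
        constructor
        · intro h
          refine ⟨(c u).2.2, Subtype.ext ?_⟩
          show M _ = _
          rw [← hc u]
          exact congrArg M (Prod.ext (congrArg Prod.fst h).symm (Prod.ext (congrArg Prod.snd h).symm rfl))
        · rintro ⟨z, rfl⟩
          simp [hcM]
      central := fun z u => Subtype.ext (by
        show (u : Matrix.SpecialLinearGroup (Fin 3) F) * M _ = M _ * (u : Matrix.SpecialLinearGroup (Fin 3) F)
        rw [← hc u, hMmul, hMmul]
        simp [add_comm])
      sq := fun u => Subtype.ext (by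
        show (u : Matrix.SpecialLinearGroup (Fin 3) F) * (u : Matrix.SpecialLinearGroup (Fin 3) F) = M _
        rw [← hc u, hMmul]
        refine congrArg M (Prod.ext ?_ (Prod.ext ?_ ?_))
        · linear_combination (c u).1 * h2
        · linear_combination (c u).2.1 * h2
        · have e : c ⟨M (c u), c u, rfl⟩ = c u := hcM _
          linear_combination (c u).2.2 * h2) }
  obtain ⟨φ⟩ := nonempty_mulEquiv E E'
  let π := (QuotientGroup.mk' (Subgroup.center (Matrix.SpecialLinearGroup (Fin 3) F))).comp U.subtype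
  have hπ : Function.Injective π := by
    intro u v h
    obtain ⟨r, -, hr⟩ := Matrix.SpecialLinearGroup.mem_center_iff.1 (QuotientGroup.eq.1 h)
    apply Subtype.ext
    have hr' : ((v : Matrix.SpecialLinearGroup (Fin 3) F) : Matrix (Fin 3) (Fin 3) F) =
        ((u : Matrix.SpecialLinearGroup (Fin 3) F) : Matrix (Fin 3) (Fin 3) F) * Matrix.scalar (Fin 3) r := by
      rw [hr, ← Matrix.SpecialLinearGroup.coe_mul]
      show _ = ((_ * ((u : Matrix.SpecialLinearGroup (Fin 3) F)⁻¹ * v) : Matrix.SpecialLinearGroup (Fin 3) F) : Matrix (Fin 3) (Fin 3) F)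
      rw [mul_inv_cancel_left]
    rw [← hc u, ← hc v] at hr' ⊢
    have e00 := congrFun (congrFun hr' 0) 0
    have e01 := congrFun (congrFun hr' 0) 1
    have e02 := congrFun (congrFun hr' 0) 2
    have e12 := congrFun (congrFun hr' 1) 2
    simp [M, Matrix.mul_apply, Fin.sum_univ_three] at e00 e01 e02 e12
    rw [← e00] at e01 e02 e12
    simp at e01 e02 e12
    exact congrArg M (Prod.ext e01.symm (Prod.ext e12.symm e02.symm))
  have hU : Nat.card U = (2 ^ n) ^ 3 := by
    rw [show Nat.card U = Nat.card (Set.range M) from rfl, ← Nat.card_congr (Equiv.ofInjective M hMinj),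
      Nat.card_prod, Nat.card_prod, Nat.card_eq_fintype_card, hF]
    ring
  have hfac : (Nat.card (Matrix.ProjectiveSpecialLinearGroup (Fin 3) F)).factorization 2 = 3 * n := by
    have h1 := Classical.Linear.natCard_PSL_mul_center (n := Fin 3) (F := F)
    have h3 := Classical.Linear.natCard_GL_eq_mul (n := Fin 3) (F := F)
    rw [Classical.Linear.natCard_center_SL, Fintype.card_fin, hF] at h1
    rw [Classical.Linear.natCard_GL_fin, hF] at h3
    simp only [Fin.prod_univ_three, Fin.val_zero, Fin.val_one, Fin.val_two, pow_zero, pow_one] at h3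
    obtain ⟨j, hj⟩ : ∃ j, 2 ^ n = 2 * j := ⟨2 ^ (n - 1), by rw [← pow_succ']; congr 1; omega⟩
    have hpos : 2 ≤ 2 ^ n := Nat.le_self_pow hn 2
    set q := 2 ^ n with hq
    have hq2 : q ≤ q ^ 2 := Nat.le_self_pow two_ne_zero q
    have hq3 : q ^ 2 ≤ q ^ 3 := Nat.pow_le_pow_right (by omega) (by norm_num)
    have h3' : (q ^ 3 - 1) * (q ^ 3 - q) * (q ^ 3 - q ^ 2) = q ^ 3 * ((q ^ 3 - 1) * (q ^ 2 - 1) * (q - 1)) := by
      rw [show q ^ 3 - q = q * (q ^ 2 - 1) by rw [Nat.mul_sub, mul_one]; ring_nf,
        show q ^ 3 - q ^ 2 = q ^ 2 * (q - 1) by rw [Nat.mul_sub, mul_one]; ring_nf]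
      ring
    rw [h3', ← h1] at h3
    have hodd : ∀ k, k ≠ 0 → ¬ 2 ∣ q ^ k - 1 := fun k hk h => by
      have h5 : 2 ∣ q ^ k := (hj ▸ dvd_mul_right 2 j).trans (dvd_pow_self q hk)
      have h6 : 1 ≤ q ^ k := Nat.one_le_pow _ _ (by omega)
      omega
    have hod1 : ¬ 2 ∣ q - 1 := by simpa using hodd 1 one_ne_zero
    have hg : ¬ 2 ∣ Nat.gcd 3 (q - 1) := fun h => hod1 (h.trans (Nat.gcd_dvd_right _ _))
    have hX : ¬ 2 ∣ (q ^ 3 - 1) * (q ^ 2 - 1) * (q - 1) := fun h => by
      rcases Nat.prime_two.dvd_mul.1 h with h' | h'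
      · rcases Nat.prime_two.dvd_mul.1 h' with h'' | h''
        · exact hodd 3 (by norm_num) h''
        · exact hodd 2 two_ne_zero h''
      · exact hod1 h'
    have hX0 : (q ^ 3 - 1) * (q ^ 2 - 1) * (q - 1) ≠ 0 := fun h => hX (h ▸ dvd_zero 2)
    have hcard0 : Nat.card (Matrix.ProjectiveSpecialLinearGroup (Fin 3) F) ≠ 0 := Nat.card_pos.ne'
    have hg0 : Nat.gcd 3 (q - 1) ≠ 0 := fun h => hg (h ▸ dvd_zero 2)
    have hq10 : q - 1 ≠ 0 := by omega
    have hfq := congrArg (fun m => m.factorization 2) h3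
    simp only [Nat.factorization_mul (pow_ne_zero 3 (by omega : q ≠ 0)) hX0,
      Nat.factorization_mul hq10 (mul_ne_zero hg0 hcard0), Nat.factorization_mul hg0 hcard0, Finsupp.add_apply,
      Nat.factorization_eq_zero_of_not_dvd hX, Nat.factorization_eq_zero_of_not_dvd hod1,
      Nat.factorization_eq_zero_of_not_dvd hg, add_zero, zero_add] at hfq
    rw [← hfq, hq, ← pow_mul, Nat.Prime.factorization_pow Nat.prime_two, Finsupp.single_eq_same, mul_comm]
  have hrange : Nat.card π.range = 2 ^ (Nat.card (Matrix.ProjectiveSpecialLinearGroup (Fin 3) F)).factorization 2 := by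
    rw [← Nat.card_congr (MonoidHom.ofInjective hπ).toEquiv, hU, hfac, ← pow_mul, mul_comm]
  exact ⟨Sylow.ofCard π.range hrange, ⟨φ.trans (MonoidHom.ofInjective hπ)⟩⟩

/-- An anisotropic form gives a Sylow 2-subgroup of `PSU₃`. -/
theorem sylow_PSU (hF : Fintype.card F = 2 ^ n) (h2 : (2 : F) = 0) {A a B : F} (E : Ext P (form A a B))
    (h : ∀ x y : F, form A a B (x, y) = 0 → x = 0 ∧ y = 0) :
    ∃ (L : Type) (_ : Field L) (_ : Fintype L), Fintype.card L = 4 ^ n ∧
      ∃ S : Sylow 2 (Cfsg.PSU 3 L (2 ^ n)), Nonempty (P ≃* ↥(S : Subgroup (Cfsg.PSU 3 L (2 ^ n)))) := by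
  classical
  haveI : Fact (Nat.Prime 2) := ⟨Nat.prime_two⟩
  have hA : A ≠ 0 := fun hA => one_ne_zero (h 1 0 (by simp [form, hA])).1
  set a' := a / A with ha'
  set b' := B / A with hb'
  let N : F × F → F := fun u => u.1 * u.1 + a' * (u.1 * u.2) + b' * (u.2 * u.2)
  have hN : ∀ u, A * N u = form A a B u := fun u => by
    simp only [N, form, ha', hb']
    field_simp
  let p : Polynomial F := Polynomial.X ^ 2 + Polynomial.C a' * Polynomial.X + Polynomial.C b'
  have hmon : p.Monic := by
    simp only [p]; monicity!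
  have hdeg : p.natDegree = 2 := by
    simp only [p]; compute_degree!
  have hnr : ∀ t : F, ¬ p.IsRoot t := by
    intro t ht
    have h0 : t ^ 2 + a' * t + b' = 0 := by simpa [p, Polynomial.IsRoot] using ht
    refine one_ne_zero (h t 1 ?_).2
    rw [← hN]
    simp only [N]
    linear_combination A * h0
  haveI hirr : Fact (Irreducible p) := ⟨Polynomial.irreducible_of_degree_le_three_of_not_isRoot
    (by rw [hdeg]; simp) hnr⟩
  let L := AdjoinRoot p
  let pb := AdjoinRoot.powerBasis hmon.ne_zero
  haveI : Module.Finite F L := pb.finite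
  haveI : Finite L := Module.finite_of_finite F
  letI : Fintype L := Fintype.ofFinite L
  have hcard : Fintype.card L = 4 ^ n := by
    rw [Module.card_eq_pow_finrank (K := F) (V := L), hF, PowerBasis.finrank pb, AdjoinRoot.powerBasis_dim, hdeg,
      ← pow_mul, show (4 : ℕ) = 2 ^ 2 by norm_num, ← pow_mul, mul_comm]
  have hL : Fintype.card L = (2 ^ n) ^ 2 := by
    rw [hcard, ← pow_mul, mul_comm n 2, pow_mul]
    norm_num
  have h2L : (2 : L) = 0 := by
    have := congrArg (algebraMap F L) h2
    rwa [map_ofNat, map_zero] at this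
  haveI : CharP L 2 :=
    charP_of_card_eq_prime_pow (f := 2 * n) (by rw [hcard, pow_mul]; norm_num)
  let ι : F →+* L := algebraMap F L
  have hι : Function.Injective ι := RingHom.injective ι
  have hιq : ∀ x : F, ι x ^ 2 ^ n = ι x := fun x => by
    rw [← map_pow, ← hF, FiniteField.pow_card]
  obtain ⟨B₀⟩ := Involutions.SylowPSUThree.exists_base (F := L) (n := n) hL
  let incl₀ : F → {z : L // z ^ 2 ^ n = z} := fun x => ⟨ι x, hιq x⟩
  have hfix : ∀ z : L, z ^ 2 ^ n = z → ∃ x, ι x = z := by
    intro z hz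
    have hbij : Function.Bijective incl₀ := (Nat.bijective_iff_injective_and_card incl₀).2
      ⟨fun x y h => hι (congrArg Subtype.val h), by
        rw [Nat.card_eq_fintype_card (α := F), hF, Involutions.SylowPSUThree.card_fixed hL]⟩
    obtain ⟨x, hx⟩ := hbij.2 ⟨z, hz⟩
    exact ⟨x, congrArg Subtype.val hx⟩
  let θ : L := AdjoinRoot.root p
  have hθ : θ * θ + ι a' * θ + ι b' = 0 := by
    have h0 := AdjoinRoot.eval₂_root p
    simp only [p, Polynomial.eval₂_add, Polynomial.eval₂_pow, Polynomial.eval₂_mul, Polynomial.eval₂_X,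
      Polynomial.eval₂_C] at h0
    rw [← pow_two]
    exact h0
  have hθF : ∀ x : F, ι x ≠ θ := fun x hx => hnr x (by
    have h0 : ι (x ^ 2 + a' * x + b') = 0 := by
      rw [map_add, map_add, map_mul, map_pow, hx, pow_two]; exact hθ
    have h1 := hι (h0.trans (map_zero ι).symm)
    simpa [p, Polynomial.IsRoot] using h1)
  have hfrob : ∀ x y : L, (x + y) ^ 2 ^ n = x ^ 2 ^ n + y ^ 2 ^ n := fun x y => add_pow_char_pow x y 2 n
  have hθq : θ ^ 2 ^ n = θ + ι a' := by
    have h1 : θ ^ 2 ^ n * θ ^ 2 ^ n + ι a' * θ ^ 2 ^ n + ι b' = 0 := by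
      have h0 := congrArg (fun z : L => z ^ 2 ^ n) hθ
      simp only [hfrob, mul_pow, hιq] at h0
      rwa [zero_pow (pow_ne_zero n two_ne_zero)] at h0
    have h3 : (θ ^ 2 ^ n + θ) * (θ ^ 2 ^ n + θ + ι a') = 0 := by
      linear_combination h1 + hθ + (θ ^ 2 ^ n * θ - ι b') * h2L
    rcases mul_eq_zero.1 h3 with h4 | h4
    · obtain ⟨x, hx⟩ := hfix θ (by linear_combination h4 - θ * h2L)
      exact absurd hx (hθF x)
    · linear_combination h4 - (θ + ι a') * h2L
  let Λ : F × F →+ L := AddMonoidHom.mk' (fun u => ι u.1 + θ * ι u.2)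
    fun u v => by simp only [Prod.fst_add, Prod.snd_add, map_add]; ring
  have hΛ : Function.Bijective Λ := by
    refine (Nat.bijective_iff_injective_and_card Λ).2 ⟨?_, ?_⟩
    · rw [injective_iff_map_eq_zero]
      intro u hu
      have hu' : ι u.1 + θ * ι u.2 = 0 := hu
      by_cases h0 : u.2 = 0
      · rw [h0, map_zero, mul_zero, add_zero] at hu'
        exact Prod.ext (hι (hu'.trans (map_zero ι).symm)) h0
      · refine absurd ?_ (hθF (u.1 / u.2))
        rw [map_div₀, div_eq_iff (fun h => h0 (hι (h.trans (map_zero ι).symm)))]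
        linear_combination hu' - θ * ι u.2 * h2L
    · rw [Nat.card_prod, Nat.card_eq_fintype_card (α := F), Nat.card_eq_fintype_card (α := L), hF, hL, pow_two]
  let Λ' : F × F ≃+ L := AddEquiv.ofBijective Λ hΛ
  have hnorm : ∀ u, Λ u * Λ u ^ 2 ^ n = ι (N u) := fun u => by
    show (ι u.1 + θ * ι u.2) * (ι u.1 + θ * ι u.2) ^ 2 ^ n = _
    rw [hfrob, mul_pow, hιq, hιq, hθq]
    simp only [N, map_add, map_mul]
    linear_combination (ι u.2 * ι u.2) * hθ + (θ * ι u.1 * ι u.2 - ι b' * (ι u.2 * ι u.2)) * h2L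
  open Involutions.SylowPSUThree in
  choose cb ca hcoord using fun s : heis hL B₀ => exists_coord hL B₀ s.2
  open Involutions.SylowPSUThree in
  choose el hel using fun x : F => exists_el hL B₀ (b := 0) (a := ι x) (by rw [hιq, zero_mul, CharTwo.add_self_eq_zero])
  open Involutions.SylowPSUThree in
  let E' : Ext (heis hL B₀) N :=
    { proj := fun s => Λ'.symm (cb s)
      incl := el
      proj_mul := fun s t => by
        rw [← map_add]
        congr 1
        exact (IsCoord.unique hL B₀ (hcoord (s * t)) ((hcoord s).mul hL B₀ (hcoord t))).1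
      proj_surj := fun u => by
        obtain ⟨a₀, ha₀⟩ := Classical.Unitary.exists_trace_eq hL (show (Λ u * Λ u ^ 2 ^ n) ^ 2 ^ n = _ from norm_fixed hL _)
        obtain ⟨s, hs⟩ := exists_el hL B₀ ha₀
        refine ⟨s, ?_⟩
        show Λ'.symm (cb s) = u
        rw [(IsCoord.unique hL B₀ (hcoord s) hs).1]
        exact Λ'.symm_apply_apply u
      incl_add := fun x y => Subtype.ext (IsCoord.ext hL B₀ (hel (x + y)) (by
        have h := (hel x).mul hL B₀ (hel y)
        rw [add_zero, zero_mul, add_zero, ← map_add] at h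
        exact h))
      incl_inj := fun x y hxy => hι (by
        have h := hel x
        rw [hxy] at h
        exact (IsCoord.unique hL B₀ h (hel y)).2)
      proj_eq_zero := fun s => by
        rw [map_eq_zero_iff Λ'.symm Λ'.symm.injective]
        constructor
        · intro hb
          have hc := hcoord s
          rw [hb] at hc
          have h2' := hc.2
          rw [zero_mul] at h2'
          obtain ⟨x, hx⟩ := hfix (ca s) (by linear_combination h2' - ca s * h2L)
          exact ⟨x, Subtype.ext (IsCoord.ext hL B₀ (hel x) (hx ▸ hc))⟩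
        · rintro ⟨x, rfl⟩
          exact (IsCoord.unique hL B₀ (hcoord _) (hel x)).1
      central := fun x s => Subtype.ext (IsCoord.ext hL B₀ ((hcoord s).mul hL B₀ (hel x)) (by
        have h := (hel x).mul hL B₀ (hcoord s)
        rw [zero_pow (pow_ne_zero n two_ne_zero), mul_zero, zero_add, add_zero, add_comm (ι x)] at h
        rw [add_zero, zero_mul, add_zero]
        exact h))
      sq := fun s => Subtype.ext (IsCoord.ext hL B₀ (mul_self hL B₀ (hcoord s)) (by
        have h := hel (N (Λ'.symm (cb s)))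
        rw [← hnorm, show Λ (Λ'.symm (cb s)) = cb s from Λ'.apply_symm_apply _] at h
        exact h)) }
  obtain ⟨e⟩ := nonempty_mulEquiv (rescale E hA N hN) E'
  obtain ⟨S⟩ : Nonempty (Sylow 2 (Cfsg.PSU 3 L (2 ^ n))) := inferInstance
  obtain ⟨e'⟩ := Involutions.SylowPSUThree.sylow_equiv hL B₀ S
  exact ⟨L, inferInstance, inferInstance, hcard, S, ⟨e.trans e'⟩⟩

end Cfsg.Agent.SingerFixed
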